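import Mathlib
import Cfsg.Agent.Lib.BoundedPresentation.SLPres
import Cfsg.Agent.Lib.SL3Presentation.Matrices

/-!
Matrix facts for the short presentation of `SL_n`: relations inside one triangle and two-generation of `SL₃` by
the cyclic permutation and one further element.
-/

set_option autoImplicit false

namespace Cfsg.Agent.Lib.SLShort

open Matrix Cfsg.Agent.Lib.SL2 Cfsg.Agent.Lib.BoundedPresentation Cfsg.Agent.Lib.BoundedPresentation.SLStd

variable {Ω Ω' : Type} [DecidableEq Ω] [Fintype Ω] [DecidableEq Ω'] [Fintype Ω'] {F : Type*} [Field F]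

theorem reindex_emb (e : Ω ≃ Ω') {a b : Ω} (h : a ≠ b) (g : SLtwo F) :
    reindexSLGroup e (emb h g) = emb (e.injective.ne h) g := by
  refine sl_ext ?_
  show ((emb h g : SpecialLinearGroup Ω F) : Matrix Ω Ω F).submatrix e.symm e.symm = _
  rw [emb_coe, emb_coe]
  ext i k
  simp only [embMat, submatrix_apply, Matrix.add_apply, Matrix.mul_apply, Fin.sum_univ_two, inc, prj, id_eq,
    Matrix.one_apply, Matrix.cons_val_zero, Matrix.cons_val_one, Equiv.symm_apply_eq, EmbeddingLike.apply_eq_iff_eq]
  simp only [← Equiv.apply_eq_iff_eq_symm_apply]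
  convert rfl using 6 <;> split_ifs <;> simp_all

theorem emb_swap {a b : Ω} (h : a ≠ b) (g : SLtwo F) : emb h.symm g = emb h (flipJ g) := by
  refine sl_ext ?_
  rw [emb_coe, emb_coe]
  ext i k
  simp only [embMat, Matrix.add_apply, Matrix.mul_apply, Fin.sum_univ_two, inc, prj, id_eq, submatrix_apply,
    Matrix.sub_apply, Matrix.one_apply, Matrix.cons_val_zero, Matrix.cons_val_one, flipJ, MonoidHom.coe_mk,
    OneHom.coe_mk, ofEntries_coe]
  by_cases hia : i = a <;> by_cases hib : i = b <;> by_cases hak : a = k <;> by_cases hbk : b = k <;>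
    simp_all

/-- The relations among the root `SL₂`s of three indices. -/
theorem tri_rels (ω : Fˣ) {a b c : Ω} (hab : a ≠ b) (hac : a ≠ c) (hbc : b ≠ c) :
    (emb hab (diag ω) * emb hac (upper 1) * (emb hab (diag ω))⁻¹ = emb hac (upper (ω : F))) ∧
    (emb hab (diag ω) * emb hac.symm (upper 1) * (emb hab (diag ω))⁻¹ = emb hac.symm (upper ((ω : F)⁻¹))) ∧
    (emb hab (diag ω) * emb hac (diag ω) = emb hac (diag ω) * emb hab (diag ω)) ∧
    (emb hac (diag ω) = emb hab (diag ω) * emb hbc (diag ω)) ∧
    (emb hab (upper (1 : F)) * emb hac (upper 1) = emb hac (upper 1) * emb hab (upper 1)) ∧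
    (emb hab (upper (1 : F)) * emb hbc.symm (upper 1) = emb hbc.symm (upper 1) * emb hab (upper 1)) ∧
    (emb hab (upper (1 : F)) * emb hbc (upper 1) * (emb hab (upper 1))⁻¹ * (emb hbc (upper 1))⁻¹ =
      emb hac (upper 1)) := by
  refine ⟨?_, ?_, ?_, ?_, ?_, ?_, ?_⟩
  · refine conj_eq ?_
    rw [emb_diag, emb_upper, emb_upper]
    refine diag_tv _ _ _ _ _ ?_
    simp [dv, hab, hab.symm, hac, hac.symm, hbc, hbc.symm]
  · refine conj_eq ?_
    rw [emb_diag, emb_upper, emb_upper]
    refine diag_tv _ _ _ _ _ ?_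
    simp [dv, hab, hab.symm, hac, hac.symm, hbc, hbc.symm]
  · refine sl_ext ?_
    rw [coe_mul', coe_mul', emb_diag, emb_diag, diagonal_mul_diagonal, diagonal_mul_diagonal]
    simp only [mul_comm]
  · refine sl_ext ?_
    rw [coe_mul', emb_diag, emb_diag, emb_diag, diagonal_mul_diagonal]
    congr 1
    funext i
    simp only [dv]
    split_ifs <;> grind [Units.inv_mul, Units.mul_inv]
  · refine sl_ext ?_
    rw [coe_mul', coe_mul', emb_upper, emb_upper]
    exact tv_comm hab.symm hac.symm _ _
  · refine sl_ext ?_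
    rw [coe_mul', coe_mul', emb_upper, emb_upper]
    exact tv_comm hbc hab.symm _ _
  · refine mul_inv_eq_iff_eq_mul.2 (mul_inv_eq_iff_eq_mul.2 (sl_ext ?_))
    simp only [coe_mul', emb_upper]
    simp only [Matrix.mul_add, Matrix.add_mul, Matrix.one_mul, Matrix.single_mul_single_same,
      Matrix.single_mul_single_of_ne _ _ _ _ hac.symm, Matrix.single_mul_single_of_ne _ _ _ _ hab.symm,
      Matrix.single_mul_single_of_ne _ _ _ _ hbc.symm, add_zero, mul_one]
    abel

section three

open Cfsg.Agent.Lib.SL3Presentation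

/-- The interchange of the first two of three indices. -/
def tau : SpecialLinearGroup (Fin 3) F →* SpecialLinearGroup (Fin 3) F :=
  (reindexSLGroup (F := F) (Equiv.swap (0 : Fin 3) 1)).toMonoidHom

/-- The inclusion of the first root `SL₂`. -/
def e01 : SLtwo F →* SpecialLinearGroup (Fin 3) F := emb (show (0 : Fin 3) ≠ 1 by decide)

theorem tau_e01 (g : SLtwo F) : tau (e01 g) = e01 (flipJ g) := by
  rw [tau, e01, MulEquiv.coe_toMonoidHom, reindex_emb]
  exact (emb_swap (show (0 : Fin 3) ≠ 1 by decide) g)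

theorem tau_mC : tau (mC : SpecialLinearGroup (Fin 3) F) = mC⁻¹ := by
  refine eq_inv_of_mul_eq_one_left ?_
  refine sl3_ext ?_
  rw [sl3_coe_mul, sl3_coe_one]
  show ((mC : SpecialLinearGroup (Fin 3) F) : Matrix (Fin 3) (Fin 3) F).submatrix
    (Equiv.swap (0 : Fin 3) 1).symm (Equiv.swap (0 : Fin 3) 1).symm * _ = _
  ext i j
  fin_cases i <;> fin_cases j <;>
    simp [mC, Matrix.mul_apply, Fin.sum_univ_three, Equiv.swap_apply_def]

theorem mU_eq (a : F) : mU a = e01 (upper a) :=
  sl3_ext (by
    rw [e01, emb_upper]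
    ext i j
    fin_cases i <;> fin_cases j <;> simp [mU, Matrix.single])

/-- The partner of the cyclic permutation. -/
def partner [Fintype F] (w : Fˣ) : SpecialLinearGroup (Fin 3) F :=
  if Fintype.card F = 4 then mU 1 * mV (w : F) else mD w w (w⁻¹ * w⁻¹) (by group) * mU 1

theorem eq_top_of_mU {S : Subgroup (SpecialLinearGroup (Fin 3) F)} (hc : (mC : SpecialLinearGroup (Fin 3) F) ∈ S)
    (hU : ∀ a, mU a ∈ S) : S = ⊤ := by
  have hV : ∀ a, mV a ∈ S := fun a => by rw [← mC_conj_U]; exact mul_mem (mul_mem hc (hU a)) (inv_mem hc)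
  have hZ : ∀ a, mZ a ∈ S := fun a => by
    rw [← mul_one a, ← mU_mV]
    exact mul_mem (mul_mem (mul_mem (hU a) (hV 1)) (inv_mem (hU a))) (inv_mem (hV 1))
  have hY : ∀ a, mY a ∈ S := fun a => by
    have h : (mC ^ 2)⁻¹ * mZ a * mC ^ 2 = mY a := by rw [← mC_sq_conj_Y a]; group
    rw [← h]
    exact mul_mem (mul_mem (inv_mem (pow_mem hc 2)) (hZ a)) (pow_mem hc 2)
  refine LinGroup.eq_top_of_transvection_mem S fun i j hij c => ?_
  obtain ⟨a, e | e | e | e | e | e⟩ := transvection_eq i j hij c <;> rw [e]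
  · exact hU a
  · exact mul_mem (mul_mem hc (hU a)) (inv_mem hc)
  · exact mul_mem (mul_mem (pow_mem hc 2) (hU a)) (inv_mem (pow_mem hc 2))
  · rw [mT_conj_U]; exact hY _
  · rw [mT_conj_U]; exact mul_mem (mul_mem hc (hY _)) (inv_mem hc)
  · rw [mT_conj_U]; exact mul_mem (mul_mem (pow_mem hc 2) (hY _)) (inv_mem (pow_mem hc 2))

/-- In a subgroup containing the cyclic permutation, two upper corner elements multiply. -/
theorem mU_of_mZ {S : Subgroup (SpecialLinearGroup (Fin 3) F)} (hc : (mC : SpecialLinearGroup (Fin 3) F) ∈ S)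
    {a b : F} (ha : mZ a ∈ S) (hb : mZ b ∈ S) : mU (a * b) ∈ S := by
  set W := mC * (mC * mZ b * mC⁻¹) * mC⁻¹ with hW
  have hWS : W ∈ S := mul_mem (mul_mem hc (mul_mem (mul_mem hc hb) (inv_mem hc))) (inv_mem hc)
  have e : mU (a * b) = mZ a * W * (mZ a)⁻¹ * W⁻¹ := by
    rw [eq_mul_inv_iff_mul_eq, eq_mul_inv_iff_mul_eq]
    refine sl3_ext ?_
    have hW' : (W : Matrix (Fin 3) (Fin 3) F) = !![1, 0, 0; 0, 1, 0; 0, b, 1] := by
      have h : W * (mC * mC) = mC * mC * mZ b := by rw [hW]; group
      have h2 : W = mC * mC * mZ b * mC := by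
        have h3 : (mC : SpecialLinearGroup (Fin 3) F) * mC * mC = 1 := by
          have := mC_cube (F := F); rwa [pow_succ, pow_two] at this
        calc W = W * (mC * mC * mC) := by rw [h3, mul_one]
          _ = W * (mC * mC) * mC := by group
          _ = _ := by rw [h]
      rw [h2, sl3_coe_mul, sl3_coe_mul, sl3_coe_mul]
      ext i k
      fin_cases i <;> fin_cases k <;> simp [mC, mZ, Matrix.mul_apply, Fin.sum_univ_three]
    simp only [sl3_coe_mul, hW']
    ext i k
    fin_cases i <;> fin_cases k <;> simp [mU, mZ, Matrix.mul_apply, Fin.sum_univ_three] <;> ring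
  rw [e]
  exact mul_mem (mul_mem (mul_mem ha hWS) (inv_mem ha)) (inv_mem hWS)

theorem mU_zero_pow (a : F) (n : ℕ) : mU a ^ n = mU ((n : F) * a) := by rw [mU_pow, nsmul_eq_mul]

theorem closure_partner [Fintype F] {w : Fˣ} (hw : ∀ t : F, t ≠ 0 → ∃ n : ℕ, (w : F) ^ n = t) :
    Subgroup.closure ({mC, partner w} : Set (SpecialLinearGroup (Fin 3) F)) = ⊤ := by
  classical
  set S := Subgroup.closure ({mC, partner w} : Set (SpecialLinearGroup (Fin 3) F))
  have hc : (mC : SpecialLinearGroup (Fin 3) F) ∈ S := Subgroup.subset_closure (Or.inl rfl)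
  have hy : partner w ∈ S := Subgroup.subset_closure (Or.inr rfl)
  set q := Fintype.card F with hq
  have hq1 : 1 < q := Fintype.one_lt_card
  have hsep : ∀ {T : Finset F}, (∀ n : ℕ, (w : F) ^ n ∈ T) → (0 : F) ∈ T → q ≤ T.card := fun {T} h h0 => by
    refine Finset.card_le_card fun t _ => ?_
    rcases eq_or_ne t 0 with rfl | ht
    · exact h0
    · obtain ⟨n, rfl⟩ := hw t ht; exact h n
  refine eq_top_of_mU hc ?_
  unfold partner at hy
  split_ifs at hy with h4
  · -- the field with four elements
    have h2 : (2 : F) = 0 := by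
      have h := FiniteField.cast_card_eq_zero F
      rw [h4] at h
      push_cast at h
      exact pow_eq_zero_iff two_ne_zero |>.1 (show (2 : F) ^ 2 = 0 by linear_combination h)
    have hZw : mZ (w : F) ∈ S := by
      have e : mU 1 * mV (w : F) * (mU 1 * mV (w : F)) = mZ (w : F) := by
        refine sl3_ext ?_
        simp only [sl3_coe_mul]
        ext i k
        fin_cases i <;> fin_cases k <;> simp [mU, mV, mZ, Matrix.mul_apply, Fin.sum_univ_three] <;>
          first | linear_combination ((w : F) * h2) | linear_combination h2 | linear_combination ((1 : F) * h2)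
      rw [← e]; exact mul_mem hy hy
    have hUw2 : mU ((w : F) * w) ∈ S := mU_of_mZ hc hZw hZw
    have hVw2 : mV ((w : F) * w) ∈ S := by rw [← mC_conj_U]; exact mul_mem (mul_mem hc hUw2) (inv_mem hc)
    have hZw2 : mZ ((w : F) * w) ∈ S := by
      have e : mU 1 * mV (w : F) * mV ((w : F) * w) * (mU 1 * mV (w : F))⁻¹ * (mV ((w : F) * w))⁻¹ =
          mZ ((w : F) * w) := by
        have hcm : mV (w : F) * mV ((w : F) * w) = mV ((w : F) * w) * mV (w : F) := by
          rw [mV_add, mV_add, add_comm]
        calc _ = mU 1 * (mV (w : F) * mV ((w : F) * w)) * (mV (w : F))⁻¹ * (mU 1)⁻¹ * (mV ((w : F) * w))⁻¹ := by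
              group
          _ = mU 1 * mV ((w : F) * w) * (mU 1)⁻¹ * (mV ((w : F) * w))⁻¹ := by rw [hcm]; group
          _ = _ := by rw [mU_mV, one_mul]
      rw [← e]
      exact mul_mem (mul_mem (mul_mem hy hVw2) (inv_mem hy)) (inv_mem hVw2)
    let A : AddSubgroup F :=
      { carrier := {a | mZ a ∈ S}
        zero_mem' := by
          have : mZ (0 : F) = 1 := sl3_ext (by rw [sl3_coe_one]; ext i k; fin_cases i <;> fin_cases k <;> simp [mZ])
          show mZ (0 : F) ∈ S; rw [this]; exact one_mem _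
        add_mem' := fun {a b} ha hb => by show mZ (a + b) ∈ S; rw [← mZ_add]; exact mul_mem ha hb
        neg_mem' := fun {a} ha => by
          show mZ (-a) ∈ S
          rw [show -a = a by linear_combination (-a) * h2]; exact ha }
    have hall : ∀ a, a ∈ A := by
      intro a
      have hw0 : (w : F) ≠ 0 := w.ne_zero
      have h3 : (w : F) ^ 3 = 1 := by
        have := FiniteField.pow_card_sub_one_eq_one (w : F) hw0
        rwa [h4] at this
      have hne : (w : F) ≠ 1 := fun h => by
        have := hsep (T := {0, 1}) (fun n => by simp [h]) (by simp)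
        have h' : ({0, 1} : Finset F).card ≤ 2 := Finset.card_le_two
        omega
      have h1 : (1 : F) ∈ A := by
        have hs : (w : F) * w + w + 1 = 0 := by
          refine (mul_eq_zero.1 (show ((w : F) - 1) * ((w : F) * w + w + 1) = 0 by linear_combination h3)).resolve_left
            (sub_ne_zero.2 hne)
        rw [show (1 : F) = (w : F) * w + w by linear_combination (-1 : F) * hs + h2]
        exact A.add_mem hZw2 hZw
      rcases eq_or_ne a 0 with rfl | ha
      · exact A.zero_mem
      obtain ⟨n, rfl⟩ := hw a ha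
      have : n % 3 < 3 := Nat.mod_lt _ (by norm_num)
      rw [show (w : F) ^ n = (w : F) ^ (n % 3) by
        conv_lhs => rw [← Nat.div_add_mod n 3, pow_add, pow_mul, h3, one_pow, one_mul]]
      rcases (show n % 3 = 0 ∨ n % 3 = 1 ∨ n % 3 = 2 by omega) with e | e | e <;> rw [e]
      · rw [pow_zero]; exact h1
      · rw [pow_one]; exact hZw
      · rw [pow_two]; exact hZw2
    intro a
    rw [← mul_one a]
    exact mU_of_mZ hc (hall a) (hall 1)
  · -- the general case
    set D := mD w w (w⁻¹ * w⁻¹) (by group) with hD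
    have hcomm : Commute D (mU 1) := by
      have := mD_conj_U w w (w⁻¹ * w⁻¹) (by group) (1 : F)
      rw [mul_inv_cancel₀ w.ne_zero, one_mul] at this
      exact mul_inv_eq_iff_eq_mul.1 this
    have hN : w ^ (q - 1) = 1 := by rw [hq, ← Fintype.card_units]; exact pow_card_eq_one
    have hU1 : mU (1 : F) ∈ S := by
      have hp := pow_mem hy (q - 1)
      have e : (D * mU (1 : F)) ^ (q - 1) = mU (-1) := by
        rw [hcomm.mul_pow, hD, mD_pow, mU_zero_pow, Nat.cast_sub hq1.le, hq, FiniteField.cast_card_eq_zero]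
        rw [show mD (w ^ (Fintype.card F - 1)) (w ^ (Fintype.card F - 1)) ((w⁻¹ * w⁻¹) ^ (Fintype.card F - 1))
            (by rw [← mul_pow, ← mul_pow]; simp) = 1 by
          rw [← hq]
          convert mD_one (F := F) using 2 <;> simp [mul_pow, hN]]
        simp
      rw [e] at hp
      have := inv_mem hp
      rwa [mU_inv, neg_neg] at this
    have hDS : D ∈ S := by
      have := mul_mem hy (inv_mem hU1)
      rwa [mul_inv_cancel_right] at this
    set D' := mC ^ 2 * D * (mC ^ 2)⁻¹ with hD'
    have hD'S : D' ∈ S := mul_mem (mul_mem (pow_mem hc 2) hDS) (inv_mem (pow_mem hc 2))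
    have hscale : ∀ a, mU a ∈ S → mU ((w : F) ^ 3 * a) ∈ S := fun a ha => by
      have e : D' * mU a * D'⁻¹ = mU ((w : F) ^ 3 * a) := by
        rw [hD', hD, mC_sq_conj_D, mD_conj_U]
        congr 1
        simp only [Units.val_mul, Units.val_inv_eq_inv_val, mul_inv, inv_inv]
        ring
      rw [← e]; exact mul_mem (mul_mem hD'S ha) (inv_mem hD'S)
    have hprod : ∀ a b, mU a ∈ S → mU b ∈ S → mU (a * b) ∈ S := by
      have hV : ∀ a, mU a ∈ S → mV a ∈ S := fun a ha => by
        rw [← mC_conj_U]; exact mul_mem (mul_mem hc ha) (inv_mem hc)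
      have hZ : ∀ a, mU a ∈ S → mZ a ∈ S := fun a ha => by
        rw [← mul_one a, ← mU_mV]
        exact mul_mem (mul_mem (mul_mem ha (hV 1 hU1)) (inv_mem ha)) (inv_mem (hV 1 hU1))
      exact fun a b ha hb => mU_of_mZ hc (hZ a ha) (hZ b hb)
    have hpow : ∀ a, mU a ∈ S → ∀ n : ℕ, mU (a ^ n) ∈ S := fun a ha n => by
      induction n with
      | zero => rwa [pow_zero]
      | succ n ih => rw [pow_succ]; exact hprod _ _ ih ha
    let K : Subfield F :=
      { carrier := {a | mU a ∈ S}
        mul_mem' := fun {a b} ha hb => hprod a b ha hb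
        one_mem' := hU1
        add_mem' := fun {a b} ha hb => by show mU (a + b) ∈ S; rw [← mU_add]; exact mul_mem ha hb
        zero_mem' := by show mU (0 : F) ∈ S; rw [mU_zero]; exact one_mem _
        neg_mem' := fun {a} ha => by show mU (-a) ∈ S; rw [← mU_inv]; exact inv_mem ha
        inv_mem' := fun a ha => by
          show mU a⁻¹ ∈ S
          rcases eq_or_ne a 0 with rfl | h0
          · rw [_root_.inv_zero]; exact ha
          · have : a⁻¹ = a ^ (q - 2) := inv_eq_of_mul_eq_one_right (by
              rw [← pow_succ', show q - 2 + 1 = q - 1 by omega, hq, FiniteField.pow_card_sub_one_eq_one a h0])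
            rw [this]; exact hpow a ha _ }
    have h3K : (w : F) ^ 3 ∈ K := by
      have := hscale 1 hU1
      rwa [mul_one] at this
    set KS : Finset F := Finset.univ.filter (fun a => a ∈ K) with hKS
    have hbound : q - 1 ≤ 3 * (KS.card - 1) := by
      have h0 : (0 : F) ∈ KS := by simp [hKS]
      have hsub := hsep (T := insert 0 ((KS.erase 0 ×ˢ Finset.range 3).image fun z => z.1 * (w : F) ^ z.2))
        (fun n => Finset.mem_insert_of_mem (Finset.mem_image.2 ⟨(((w : F) ^ 3) ^ (n / 3), n % 3),
          Finset.mem_product.2 ⟨Finset.mem_erase.2 ⟨pow_ne_zero _ (pow_ne_zero _ w.ne_zero),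
            by simpa [hKS] using pow_mem h3K _⟩, Finset.mem_range.2 (Nat.mod_lt _ (by norm_num))⟩,
          by rw [← pow_mul, ← pow_add, Nat.div_add_mod]⟩))
        (Finset.mem_insert_self _ _)
      have h1 := (Finset.card_insert_le (0 : F) _).trans (Nat.succ_le_succ
        (Finset.card_image_le (s := KS.erase 0 ×ˢ Finset.range 3) (f := fun z => z.1 * (w : F) ^ z.2)))
      rw [Finset.card_product, Finset.card_range, Finset.card_erase_of_mem h0] at h1
      have := hsub.trans h1
      omega
    have hr : KS.card = Nat.card K := by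
      rw [Nat.card_eq_fintype_card]
      exact (Fintype.card_subtype _).symm
    have hr2 : 2 ≤ Nat.card K := Finite.one_lt_card
    have htop : Nat.card K = q := by
      have h := Module.natCard_eq_pow_finrank (K := K) (V := F)
      rw [Nat.card_eq_fintype_card, ← hq] at h
      set m := Module.finrank K F
      have hm : 0 < m := Module.finrank_pos
      rcases eq_or_lt_of_le (show 1 ≤ m from hm) with h1 | h1
      · rw [← h1, pow_one] at h; exact h.symm
      · exfalso
        have h2 : Nat.card K ^ 2 ≤ q := h ▸ Nat.pow_le_pow_right (by omega) h1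
        rw [hr] at hbound
        have : Nat.card K = 2 := by nlinarith [Nat.sub_add_cancel (show 1 ≤ Nat.card K by omega), Nat.sub_add_cancel hq1.le]
        rw [this] at h h2 hbound
        have h3 : q ≤ 4 := by omega
        have : q ≥ 4 := h2
        omega
    intro a
    have hu : KS = Finset.univ := Finset.eq_univ_of_card _ (by rw [hr, htop, hq])
    have : a ∈ KS := hu ▸ Finset.mem_univ a
    exact show a ∈ K by simpa [hKS] using this

end three

end Cfsg.Agent.Lib.SLShort

namespace Cfsg.Agent.Lib.SLShort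

open Matrix Cfsg.Agent.Lib.SL2 Cfsg.Agent.Lib.BoundedPresentation Cfsg.Agent.Lib.BoundedPresentation.SLStd

variable {Ω : Type} [DecidableEq Ω] [Fintype Ω] {F : Type*} [Field F]

/-- Torus elements scale the four kinds of neighbouring roots. -/
theorem tri_scale (ω : Fˣ) (t : F) {a b c : Ω} (hab : a ≠ b) (hac : a ≠ c) (hbc : b ≠ c) :
    (emb hab (diag ω) * emb hac (upper t) * (emb hab (diag ω))⁻¹ = emb hac (upper ((ω : F) * t))) ∧
    (emb hab (diag ω) * emb hbc (upper t) * (emb hab (diag ω))⁻¹ = emb hbc (upper ((ω : F)⁻¹ * t))) ∧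
    (emb hab (diag ω) * emb hac.symm (upper t) * (emb hab (diag ω))⁻¹ = emb hac.symm (upper ((ω : F)⁻¹ * t))) := by
  refine ⟨?_, ?_, ?_⟩
  all_goals
    refine conj_eq ?_
    rw [emb_diag, emb_upper, emb_upper]
    refine diag_tv _ _ _ _ _ ?_
    simp [dv, hab.symm, hac.symm, hbc.symm, mul_comm]

/-- The cyclic permutation rotates the root `SL₂`s. -/
theorem mC_emb {a b : Fin 3} (h : a ≠ b) (h' : a + 1 ≠ b + 1) (g : SLtwo F) :
    SL3Presentation.mC * emb h g * SL3Presentation.mC⁻¹ = emb h' g := by
  have e : (SL3Presentation.mC : SpecialLinearGroup (Fin 3) F) =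
      permHom (⟨finRotate 3, by simp⟩ : alternatingGroup (Fin 3)) := by
    refine sl_ext ?_
    show _ = Matrix.permMatrixHom (R := F) (finRotate 3)
    rw [Matrix.permMatrixHom_apply]
    ext i k
    fin_cases i <;> fin_cases k <;>
      simp [SL3Presentation.mC, Equiv.Perm.permMatrix, PEquiv.toMatrix_apply, Equiv.Perm.inv_def,
        Equiv.symm_apply_eq] <;> decide
  rw [e]
  exact perm_emb _ h h' (finRotate_apply a) (finRotate_apply b) g

end Cfsg.Agent.Lib.SLShort
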