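import Mathlib
import Cfsg.Agent.Lib.SLShort.Mat

/-!
An alternating group and one `SL₃` glued along a three cycle give the relations of type `A`.
-/

set_option autoImplicit false

namespace Cfsg.Agent.Lib.SLShort

open Equiv Equiv.Perm Cfsg.Agent.Lib.SL2 Cfsg.Agent.Lib.SpFourPresentation Cfsg.Agent.Lib.BoundedPresentation
  Cfsg.Agent.Lib.BoundedPresentation.Pt Cfsg.Agent.Lib.BoundedPresentation.SLGlue
  Cfsg.Agent.Lib.BoundedPresentation.SLStd

variable {j : ℕ}

theorem ne02 : (q0 : Pt j) ≠ q2 := by simp [q0, q2]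
theorem ne12 : (q1 : Pt j) ≠ q2 := by simp [q1, q2]

/-- The three cycle on the first three marked points. -/
def rot3 : Alt2 (Fin (j + 2)) :=
  ⟨swap q0 q1 * swap q1 q2, by
    rw [mem_alternatingGroup, map_mul, sign_swap ne01, sign_swap ne12]; rfl⟩

theorem rot3_q0 : (rot3 : Alt2 (Fin (j + 2))).1 (q0 : Pt j) = q1 := by
  show swap (q0 : Pt j) q1 (swap q1 q2 q0) = q1
  rw [swap_apply_of_ne_of_ne ne01 ne02, swap_apply_left]

theorem rot3_q1 : (rot3 : Alt2 (Fin (j + 2))).1 (q1 : Pt j) = q2 := by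
  show swap (q0 : Pt j) q1 (swap q1 q2 q1) = q2
  rw [swap_apply_left, swap_apply_of_ne_of_ne ne02.symm ne12.symm]

theorem rot3_q2 : (rot3 : Alt2 (Fin (j + 2))).1 (q2 : Pt j) = q0 := by
  show swap (q0 : Pt j) q1 (swap q1 q2 q2) = q0
  rw [swap_apply_right, swap_apply_right]

/-- The three points. -/
def base3 : Fin 3 → Pt j := ![q0, q1, q2]

theorem rot3_base3 (i : Fin 3) : (rot3 : Alt2 (Fin (j + 2))).1 (base3 i : Pt j) = base3 (i + 1) := by
  fin_cases i
  exacts [rot3_q0, rot3_q1, rot3_q2]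

variable {F : Type*} [Field F] {G : Type*} [Group G]

/-- The first root `SL₂` of the glued `SL₃`. -/
def first (θ : Matrix.SpecialLinearGroup (Fin 3) F →* G) : SLtwo F →* G := θ.comp e01

/-- What the glue relations give at once. -/
structure Glued (ω : Fˣ) (ρ : Alt2 (Fin (j + 2)) →* G) (θ : Matrix.SpecialLinearGroup (Fin 3) F →* G) : Prop where
  cyc3 : θ SL3Presentation.mC = ρ rot3
  st : Stab ω ρ (first θ)
  par : Commute (first θ (upper 1)) (rootHom ρ (first θ) q2 q3 (upper 1))
  opp : Commute (first θ (upper 1)) (rootHom ρ (first θ) q3 q2 (upper 1))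

variable {ω : Fˣ} {ρ : Alt2 (Fin (j + 2)) →* G} {θ : Matrix.SpecialLinearGroup (Fin 3) F →* G}
  (T : Setting ω) (D : Glued ω ρ θ) (h3 : θ SL3Presentation.mC = ρ rot3) (S0 : Stab ω ρ (first θ))

include T h3 S0 in
theorem cj_rot3 (g : Matrix.SpecialLinearGroup (Fin 3) F) :
    cj ρ rot3 (θ g) = θ (SL3Presentation.mC * g * SL3Presentation.mC⁻¹) := by
  rw [cj_apply, map_mul, map_mul, map_inv, h3]

include T h3 S0 in
theorem base_triangle_of_stab {i k : Fin 3} (h : i ≠ k) (g : SLtwo F) :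
    θ (emb h g) = rootHom ρ (first θ) (base3 i) (base3 k) g := by
  have h01 : ∀ g, θ (emb (show (0 : Fin 3) ≠ 1 by decide) g) = rootHom ρ (first θ) q0 q1 g := fun g => by
    rw [root01 T S0]; rfl
  have h10 : ∀ g, θ (emb (show (1 : Fin 3) ≠ 0 by decide) g) = rootHom ρ (first θ) q1 q0 g := fun g => by
    rw [root_of T S0 piv piv_q0 piv_q1, cj_apply,
      flip_all T ρ (first θ) S0.flip_u S0.flip_h g]
    exact congrArg θ (emb_swap (show (0 : Fin 3) ≠ 1 by decide) g)
  have step : ∀ {i k : Fin 3} (h : i ≠ k), (∀ g, θ (emb h g) = rootHom ρ (first θ) (base3 i) (base3 k) g) →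
      ∀ (h' : i + 1 ≠ k + 1) g, θ (emb h' g) = rootHom ρ (first θ) (base3 (i + 1)) (base3 (k + 1)) g := by
    intro i k h hh h' g
    have hne : (base3 i : Pt j) ≠ base3 k := by
      have := ne01 (j := j); have := ne02 (j := j); have := ne12 (j := j)
      fin_cases i <;> fin_cases k <;> simp_all [base3, eq_comm]
    rw [← mC_emb h h', ← cj_rot3 T h3 S0, hh, cj_root T S0 rot3 hne (rot3_base3 i) (rot3_base3 k)]
  fin_cases i <;> fin_cases k
  all_goals try exact absurd rfl h
  · exact h01 g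
  · exact step (i := 2) (k := 1) (by decide) (step (i := 1) (k := 0) (by decide) h10 (by decide)) h g
  · exact h10 g
  · exact step (i := 0) (k := 1) (by decide) h01 h g
  · exact step (i := 1) (k := 2) (by decide) (step (i := 0) (k := 1) (by decide) h01 (by decide)) h g
  · exact step (i := 1) (k := 0) (by decide) h10 h g

include T h3 S0 in
/-- Every triangle carries a copy of `SL₃`. -/
theorem exists_triangle_of_stab {a b c : Pt j} (hab : a ≠ b) (hac : a ≠ c) (hbc : b ≠ c) :
    ∃ Φ : Matrix.SpecialLinearGroup (Fin 3) F →* G, ∀ {i k : Fin 3} (h : i ≠ k) (g : SLtwo F),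
      Φ (emb h g) = rootHom ρ (first θ) (![a, b, c] i) (![a, b, c] k) g := by
  obtain ⟨σ, x, y, ho, s0, s1, sx⟩ := exists_three hab hac hbc
  have hne : ∀ {i k : Fin 3}, i ≠ k → (base3 i : Pt j) ≠ base3 k := by
    intro i k h
    have := ne01 (j := j); have := ne02 (j := j); have := ne12 (j := j)
    fin_cases i <;> fin_cases k <;> simp_all [base3, eq_comm]
  rcases ho with ⟨rfl, -⟩ | ⟨rfl, -⟩
  · refine ⟨(cj ρ σ).comp θ, fun {i k} h g => ?_⟩
    rw [MonoidHom.comp_apply, base_triangle_of_stab T h3 S0 h, cj_root T S0 σ (hne h)]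
    · fin_cases i <;> simp [base3, s0, s1, sx]
    · fin_cases k <;> simp [base3, s0, s1, sx]
  · refine ⟨(cj ρ σ).comp ((cj ρ piv).comp (θ.comp tau)), fun {i k} h g => ?_⟩
    have hp : (piv : Alt2 (Fin (j + 2))).1 (q2 : Pt j) = q3 := by
      show swap (q0 : Pt j) q1 (swap q2 q3 q2) = q3
      rw [swap_apply_left]; exact swap_apply_of_ne_of_ne (by simp [q0, q3]) (by simp [q1, q3])
    rw [MonoidHom.comp_apply, MonoidHom.comp_apply, MonoidHom.comp_apply, tau, MulEquiv.coe_toMonoidHom,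
      reindex_emb, base_triangle_of_stab T h3 S0, cj_root T S0 piv (hne ((Equiv.injective _).ne h)) rfl rfl,
      cj_root T S0 σ (piv.1.injective.ne (hne ((Equiv.injective _).ne h)))]
    · fin_cases i <;> simp [base3, piv_q0, piv_q1, hp, s0, s1, sx, Equiv.swap_apply_def]
    · fin_cases k <;> simp [base3, piv_q0, piv_q1, hp, s0, s1, sx, Equiv.swap_apply_def]

include T D in
theorem base_triangle {i k : Fin 3} (h : i ≠ k) (g : SLtwo F) :
    θ (emb h g) = rootHom ρ (first θ) (base3 i) (base3 k) g :=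
  base_triangle_of_stab T D.cyc3 D.st h g

include T D in
/-- Every triangle carries a copy of `SL₃`. -/
theorem exists_triangle {a b c : Pt j} (hab : a ≠ b) (hac : a ≠ c) (hbc : b ≠ c) :
    ∃ Φ : Matrix.SpecialLinearGroup (Fin 3) F →* G, ∀ {i k : Fin 3} (h : i ≠ k) (g : SLtwo F),
      Φ (emb h g) = rootHom ρ (first θ) (![a, b, c] i) (![a, b, c] k) g :=
  exists_triangle_of_stab T D.cyc3 D.st hab hac hbc

local notation "X" => fun a b t => rootHom ρ (first θ) a b (upper t)
local notation "H" => fun a b => rootHom ρ (first θ) a b (diag ω)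

include T D in
theorem scales_tri {a b c : Pt j} (hab : a ≠ b) (hac : a ≠ c) (hbc : b ≠ c) (t : F) :
    (H a b * X a c t * (H a b)⁻¹ = X a c ((ω : F) * t)) ∧
    (H a b * X b c t * (H a b)⁻¹ = X b c ((ω : F)⁻¹ * t)) ∧
    (H a b * X c a t * (H a b)⁻¹ = X c a ((ω : F)⁻¹ * t)) := by
  obtain ⟨Φ, hΦ⟩ := exists_triangle T D hab hac hbc
  obtain ⟨e1, e2, e3⟩ := tri_scale ω t (show (0 : Fin 3) ≠ 1 by decide) (show (0 : Fin 3) ≠ 2 by decide)
    (show (1 : Fin 3) ≠ 2 by decide)
  have f1 := congrArg Φ e1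
  have f2 := congrArg Φ e2
  have f3 := congrArg Φ e3
  simp only [map_mul, map_inv, hΦ] at f1 f2 f3
  exact ⟨f1, f2, f3⟩

include T D in
theorem comm_four {a b c d : Pt j} (hab : a ≠ b) (hac : a ≠ c) (had : a ≠ d) (hbc : b ≠ c) (hbd : b ≠ d)
    (hcd : c ≠ d) (h1 : Commute (X a b 1) (X c d 1)) (s t : F) : Commute (X a b s) (X c d t) := by
  have A1 : ∀ t, H a c * X a b t * (H a c)⁻¹ = X a b ((ω : F) * t) := fun t => (scales_tri T D hac hab hbc.symm t).1
  have A2 : ∀ t, H a c * X c d t * (H a c)⁻¹ = X c d ((ω : F)⁻¹ * t) := fun t => (scales_tri T D hac had hcd t).2.1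
  have B1 : ∀ t, H b c * X a b t * (H b c)⁻¹ = X a b ((ω : F)⁻¹ * t) := fun t =>
    (scales_tri T D hbc hab.symm hac.symm t).2.2
  have B2 : ∀ t, H b c * X c d t * (H b c)⁻¹ = X c d ((ω : F)⁻¹ * t) := fun t => (scales_tri T D hbc hbd hcd t).2.1
  have hi : ∀ {g : G} {P Q : F}, ∀ {Y : F → G}, g * Y P * g⁻¹ = Y Q → g⁻¹ * Y Q * g = Y P := fun {g P Q Y} e => by
    rw [← e]; group
  have key : ∀ (t : F), ∀ s, Commute (X a b s) (X c d t) → Commute (X a b ((ω : F) ^ 2 * s)) (X c d t) ∧
      Commute (X a b s) (X c d ((ω : F) ^ 2 * t)) := by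
    intro t s h
    have hω := ω.ne_zero
    constructor
    · have e1 : (H b c)⁻¹ * X a b s * H b c = X a b ((ω : F) * s) :=
        hi (Y := fun t => X a b t) (by have := B1 ((ω : F) * s); rwa [inv_mul_cancel_left₀ hω] at this)
      have e2 : (H b c)⁻¹ * X c d t * H b c = X c d ((ω : F) * t) :=
        hi (Y := fun t => X c d t) (by have := B2 ((ω : F) * t); rwa [inv_mul_cancel_left₀ hω] at this)
      have := h.map ((MulAut.conj (H a c)).toMonoidHom.comp (MulAut.conj (H b c)⁻¹).toMonoidHom)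
      simp only [MonoidHom.comp_apply, MulEquiv.coe_toMonoidHom, MulAut.conj_apply, inv_inv] at this e1 e2 A1 A2
      rw [e1, e2, A1, A2, inv_mul_cancel_left₀ hω] at this
      rwa [show (ω : F) ^ 2 * s = (ω : F) * ((ω : F) * s) by ring]
    · have e1 : (H a c)⁻¹ * X a b s * H a c = X a b ((ω : F)⁻¹ * s) :=
        hi (Y := fun t => X a b t) (by have := A1 ((ω : F)⁻¹ * s); rwa [mul_inv_cancel_left₀ hω] at this)
      have e2 : (H a c)⁻¹ * X c d t * H a c = X c d ((ω : F) * t) :=
        hi (Y := fun t => X c d t) (by have := A2 ((ω : F) * t); rwa [inv_mul_cancel_left₀ hω] at this)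
      have e3 : (H b c)⁻¹ * X a b ((ω : F)⁻¹ * s) * H b c = X a b s :=
        hi (Y := fun t => X a b t) (B1 s)
      have e4 : (H b c)⁻¹ * X c d ((ω : F) * t) * H b c = X c d ((ω : F) ^ 2 * t) :=
        hi (Y := fun t => X c d t) (by
          have := B2 ((ω : F) ^ 2 * t)
          rwa [show (ω : F)⁻¹ * ((ω : F) ^ 2 * t) = (ω : F) * t by field_simp] at this)
      have := h.map ((MulAut.conj (H b c)⁻¹).toMonoidHom.comp (MulAut.conj (H a c)⁻¹).toMonoidHom)
      simp only [MonoidHom.comp_apply, MulEquiv.coe_toMonoidHom, MulAut.conj_apply, inv_inv] at this e1 e2 e3 e4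
      rwa [e1, e2, e3, e4] at this
  have hz : ∀ a b : Pt j, IsFam (X a b) := fun a b => fam_upper _
  let S1 : AddSubgroup F :=
    { carrier := {s | Commute (X a b s) (X c d 1)}
      zero_mem' := by
        show Commute (X a b 0) (X c d 1)
        rw [(hz a b).zero]; exact Commute.one_left _
      add_mem' := fun {p q} hp hq => by
        show Commute (X a b (p + q)) (X c d 1)
        rw [hz a b p q]; exact hp.mul_left hq
      neg_mem' := fun {p} hp => by
        show Commute (X a b (-p)) (X c d 1)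
        rw [(hz a b).neg]; exact hp.inv_left }
  have hs1 : ∀ s, Commute (X a b s) (X c d 1) := T.span S1 h1 fun s hs => (key 1 s hs).1
  let S2 : AddSubgroup F :=
    { carrier := {t | Commute (X a b s) (X c d t)}
      zero_mem' := by
        show Commute (X a b s) (X c d 0)
        rw [(hz c d).zero]; exact Commute.one_right _
      add_mem' := fun {p q} hp hq => by
        show Commute (X a b s) (X c d (p + q))
        rw [hz c d p q]; exact hp.mul_right hq
      neg_mem' := fun {p} hp => by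
        show Commute (X a b s) (X c d (-p))
        rw [(hz c d).neg]; exact hp.inv_right }
  exact T.span S2 (hs1 s) (fun t ht => (key t s ht).2) t

include T D in
theorem lower_eq {a b : Pt j} (hab : a ≠ b) (t : F) :
    rootHom ρ (first θ) a b (lower t) = rootHom ρ (first θ) b a (upper t) := by
  obtain ⟨σ, h0, h1⟩ := exists_two hab
  rw [← cj_root T D.st σ ne01 h0 h1, ← cj_root T D.st σ ne01.symm h1 h0, root01 T D.st,
    root_of T D.st piv piv_q0 piv_q1, cj_apply piv, flip01 T D.st]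

include T D in
theorem comm_pairs {x y : Pt j} (ho : Ori x y) (g g' : SLtwo F) :
    Commute (first θ g) (rootHom ρ (first θ) x y g') := by
  obtain ⟨n0, n0', n1, n1', nxy⟩ := ori_ne ho
  have hp : (piv : Alt2 (Fin (j + 2))).1 (q2 : Pt j) = q3 := by
    show swap (q0 : Pt j) q1 (swap q2 q3 q2) = q3
    rw [swap_apply_left]; exact swap_apply_of_ne_of_ne (by simp [q0, q3]) (by simp [q1, q3])
  have hp' : (piv : Alt2 (Fin (j + 2))).1 (q3 : Pt j) = q2 := by
    show swap (q0 : Pt j) q1 (swap q2 q3 q3) = q2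
    rw [swap_apply_right]; exact swap_apply_of_ne_of_ne (by simp [q0, q2]) (by simp [q1, q2])
  have n23 : (q2 : Pt j) ≠ q3 := by simp [q2, q3]
  have P : Commute (X q0 q1 1) (X q2 q3 1) := by
    show Commute (rootHom ρ (first θ) q0 q1 (upper 1)) _
    rw [root01 T D.st]; exact D.par
  have M : Commute (X q0 q1 1) (X q3 q2 1) := by
    show Commute (rootHom ρ (first θ) q0 q1 (upper 1)) _
    rw [root01 T D.st]; exact D.opp
  have P' : Commute (X q1 q0 1) (X q3 q2 1) := by
    have := P.map (cj ρ piv)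
    simpa only [cj_root T D.st piv ne01 piv_q0 piv_q1, cj_root T D.st piv n23 hp hp'] using this
  have M' : Commute (X q1 q0 1) (X q2 q3 1) := by
    have := M.map (cj ρ piv)
    simpa only [cj_root T D.st piv ne01 piv_q0 piv_q1, cj_root T D.st piv n23.symm hp' hp] using this
  have up : ∀ {a b : Pt j}, Commute (X q0 q1 1) (X a b 1) → Commute (X q1 q0 1) (X a b 1) → q0 ≠ a → q0 ≠ b →
      q1 ≠ a → q1 ≠ b → a ≠ b → ∀ g t, Commute (first θ g) (X a b t) := by
    intro a b h h' a0 b0 a1 b1 nab g t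
    have hK : (Subgroup.centralizer ({X a b t} : Set G)).comap (first θ) = ⊤ := by
      refine Cfsg.Agent.Lib.LinGroup.closure_upper_lower (fun s => ?_) (fun s => ?_) <;>
        rw [Subgroup.mem_comap, Subgroup.mem_centralizer_singleton_iff, ← root01 T D.st]
      · exact (comm_four T D ne01 a0 b0 a1 b1 nab h s t).eq
      · rw [lower_eq T D ne01]
        exact (comm_four T D ne01.symm a1 b1 a0 b0 nab h' s t).eq
    have := (Subgroup.eq_top_iff' _).1 hK g
    rw [Subgroup.mem_comap, Subgroup.mem_centralizer_singleton_iff] at this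
    exact this
  have hK : (Subgroup.centralizer ({first θ g} : Set G)).comap (rootHom ρ (first θ) x y) = ⊤ := by
    refine Cfsg.Agent.Lib.LinGroup.closure_upper_lower (fun s => ?_) (fun s => ?_) <;>
      rw [Subgroup.mem_comap, Subgroup.mem_centralizer_singleton_iff]
    · rcases ho with ⟨rfl, rfl⟩ | ⟨rfl, rfl⟩
      · exact (up P M' n0 n0' n1 n1' nxy g s).symm.eq
      · exact (up M P' n0 n0' n1 n1' nxy g s).symm.eq
    · rw [lower_eq T D nxy]
      rcases ho with ⟨rfl, rfl⟩ | ⟨rfl, rfl⟩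
      · exact (up M P' n0' n0 n1' n1 nxy.symm g s).symm.eq
      · exact (up P M' n0' n0 n1' n1 nxy.symm g s).symm.eq
  have := (Subgroup.eq_top_iff' _).1 hK g'
  rw [Subgroup.mem_comap, Subgroup.mem_centralizer_singleton_iff] at this
  exact Commute.symm this

include T D in
/-- The relations of type `A`. -/
theorem base_of_glued : Base ω ρ (first θ) := by
  refine ⟨D.st, comm_pairs T D ori23 _ _, fun x y ho => ?_⟩
  obtain ⟨n0, n0', n1, n1', nxy⟩ := ori_ne ho
  obtain ⟨Φ, hΦ⟩ := exists_triangle T D (ne01 (j := j)) n0 n1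
  obtain ⟨e1, e2, e3, e4, e5, e6, e7⟩ := tri_rels (F := F) ω (show (0 : Fin 3) ≠ 1 by decide)
    (show (0 : Fin 3) ≠ 2 by decide) (show (1 : Fin 3) ≠ 2 by decide)
  have f1 := congrArg Φ e1
  have f2 := congrArg Φ e2
  have f3 := congrArg Φ e3
  have f4 := congrArg Φ e4
  have f5 := congrArg Φ e5
  have f6 := congrArg Φ e6
  have f7 := congrArg Φ e7
  simp only [map_mul, map_inv, hΦ] at f1 f2 f3 f4 f5 f6 f7
  simp only [Matrix.cons_val_zero, Matrix.cons_val_one, Matrix.cons_val, Matrix.head_cons, root01 T D.st] at f1 f2 f3 f4 f5 f6 f7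
  refine ⟨?_, f1, f2, f3, f4, ?_, f5, f6, f7⟩ <;> simp only [← rootHom_eq]
  · exact mul_inv_eq_iff_eq_mul.2 (comm_pairs T D ho _ _).eq
  · exact comm_pairs T D ho _ _

end Cfsg.Agent.Lib.SLShort
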