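import Mathlib
import Cfsg.Agent.Lib.SLShort.Glue

/-!
The standard copy of `SL₃` on three marked coordinates.
-/

set_option autoImplicit false

namespace Cfsg.Agent.Lib.SLShort

open Matrix Cfsg.Agent.Lib.SL2 Cfsg.Agent.Lib.BoundedPresentation Cfsg.Agent.Lib.BoundedPresentation.SLStd
  Cfsg.Agent.Lib.BoundedPresentation.Pt

section general

variable {κ Ω : Type} [DecidableEq κ] [Fintype κ] [DecidableEq Ω] [Fintype Ω] {F : Type*} [Field F]

/-- The inclusion matrix of a set of coordinates. -/
def incl (F : Type*) [Field F] (f : κ → Ω) : Matrix Ω κ F := (1 : Matrix Ω Ω F).submatrix id f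
/-- The projection matrix of a set of coordinates. -/
def proj (F : Type*) [Field F] (f : κ → Ω) : Matrix κ Ω F := (1 : Matrix Ω Ω F).submatrix f id

omit [Fintype κ] in
theorem proj_incl {f : κ → Ω} (hf : Function.Injective f) : proj F f * incl F f = 1 := by
  rw [proj, incl, ← submatrix_mul _ _ _ _ _ Function.bijective_id, one_mul, submatrix_one f hf]

/-- The matrix of a matrix placed on some coordinates. -/
def placeMat (f : κ → Ω) (g : Matrix κ κ F) : Matrix Ω Ω F := 1 + incl F f * (g - 1) * proj F f

theorem placeMat_mul {f : κ → Ω} (hf : Function.Injective f) (g h : Matrix κ κ F) :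
    placeMat f g * placeMat f h = placeMat f (g * h) := by
  have key : incl F f * (g - 1) * proj F f * (incl F f * (h - 1) * proj F f) =
      incl F f * ((g - 1) * (h - 1)) * proj F f := by
    rw [show incl F f * (g - 1) * proj F f * (incl F f * (h - 1) * proj F f) =
      incl F f * (g - 1) * (proj F f * incl F f) * (h - 1) * proj F f by simp only [Matrix.mul_assoc], proj_incl hf,
      Matrix.mul_one, Matrix.mul_assoc (incl F f)]
  rw [placeMat, placeMat, placeMat, Matrix.add_mul, Matrix.one_mul, Matrix.mul_add, Matrix.mul_one, key,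
    show g * h - 1 = (g - 1) + (h - 1) + (g - 1) * (h - 1) by noncomm_ring]
  simp only [Matrix.mul_add, Matrix.add_mul]
  abel

/-- A special linear group placed on some coordinates. -/
def place {f : κ → Ω} (hf : Function.Injective f) :
    Matrix.SpecialLinearGroup κ F →* Matrix.SpecialLinearGroup Ω F where
  toFun g := ⟨placeMat f g.1, by
    rw [placeMat, det_one_add_mul_comm, ← Matrix.mul_assoc, proj_incl hf, Matrix.one_mul, add_sub_cancel]
    exact g.2⟩
  map_one' := Subtype.ext (by simp [placeMat])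
  map_mul' g h := Subtype.ext (placeMat_mul hf g.1 h.1).symm

theorem place_emb {f : κ → Ω} (hf : Function.Injective f) {a b : κ} (h : a ≠ b) (g : SLtwo F) :
    place hf (emb h g) = emb (hf.ne h) g := by
  refine sl_ext ?_
  show placeMat f (embMat ![a, b] g.1) = embMat ![f a, f b] g.1
  have e1 : incl F f * inc F ![a, b] = inc F ![f a, f b] := by
    ext i k
    simp only [incl, inc, Matrix.mul_apply, submatrix_apply, id_eq, Matrix.one_apply]
    rw [Finset.sum_eq_single (![a, b] k) (fun x _ hx => by simp [hx, Ne.symm hx]) (by simp)]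
    fin_cases k <;> simp <;> congr
  have e2 : prj F ![a, b] * proj F f = prj F ![f a, f b] := by
    ext k i
    simp only [proj, prj, Matrix.mul_apply, submatrix_apply, id_eq, Matrix.one_apply]
    rw [Finset.sum_eq_single (![a, b] k) (fun x _ hx => by simp [hx, Ne.symm hx]) (by simp)]
    fin_cases k <;> simp <;> congr
  rw [placeMat, embMat, embMat, add_sub_cancel_left, ← Matrix.mul_assoc, ← Matrix.mul_assoc, e1,
    Matrix.mul_assoc _ (prj F _), e2]

theorem place_perm {f : κ → Ω} (hf : Function.Injective f) (σ : alternatingGroup κ) (σ' : alternatingGroup Ω)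
    (h1 : ∀ k, σ'.1 (f k) = f (σ.1 k)) (h2 : ∀ i, i ∉ Set.range f → σ'.1 i = i) :
    place hf (permHom σ : Matrix.SpecialLinearGroup κ F) = permHom σ' := by
  refine sl_ext ?_
  show placeMat f (Matrix.permMatrixHom (R := F) σ.1) = Matrix.permMatrixHom (R := F) σ'.1
  rw [Matrix.permMatrixHom_apply, Matrix.permMatrixHom_apply]
  ext i k
  simp only [placeMat, incl, proj, Matrix.add_apply, Matrix.mul_apply, submatrix_apply, id_eq, Matrix.one_apply,
    Equiv.Perm.permMatrix, PEquiv.toMatrix_apply, Equiv.toPEquiv_apply, Option.mem_def, Option.some.injEq,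
    Matrix.sub_apply]
  by_cases hi : ∃ a, f a = i
  · obtain ⟨a, rfl⟩ := hi
    have e : (σ'.1)⁻¹ (f a) = f ((σ.1)⁻¹ a) := by
      rw [Equiv.Perm.inv_eq_iff_eq, h1]; simp
    rw [e]
    simp only [hf.eq_iff, ite_mul, one_mul, zero_mul, Finset.sum_ite_eq, Finset.mem_univ, if_true, mul_ite, mul_one,
      mul_zero]
    by_cases hk : ∃ b, f b = k
    · obtain ⟨b, rfl⟩ := hk
      simp only [hf.eq_iff]
      simp
    · have hk' : ∀ b, f b ≠ k := fun b hb => hk ⟨b, hb⟩
      simp [hk']
  · have hi' : ∀ a, i ≠ f a := fun a ha => hi ⟨a, ha.symm⟩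
    have e : (σ'.1)⁻¹ i = i := Equiv.Perm.inv_eq_iff_eq.2 (h2 i (fun ⟨a, ha⟩ => hi ⟨a, ha⟩)).symm
    rw [e]
    simp [hi']

end general

variable {j : ℕ} {F : Type*} [Field F]

theorem base3_injective : Function.Injective (base3 : Fin 3 → Pt j) := by
  intro i k h
  have := ne01 (j := j); have := ne02 (j := j); have := ne12 (j := j)
  fin_cases i <;> fin_cases k <;> simp_all [base3, eq_comm]

/-- The standard copy of `SL₃`. -/
def std3 : Matrix.SpecialLinearGroup (Fin 3) F →* Matrix.SpecialLinearGroup (Pt j) F := place base3_injective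

theorem std3_emb {i k : Fin 3} (h : i ≠ k) (g : SLtwo F) :
    (std3 (emb h g) : Matrix.SpecialLinearGroup (Pt j) F) = emb (base3_injective.ne h) g :=
  place_emb _ h g

theorem std3_mC : (std3 SL3Presentation.mC : Matrix.SpecialLinearGroup (Pt j) F) = permHom rot3 := by
  have e : (SL3Presentation.mC : SpecialLinearGroup (Fin 3) F) =
      permHom (⟨finRotate 3, by simp⟩ : alternatingGroup (Fin 3)) := by
    refine sl_ext ?_
    show _ = Matrix.permMatrixHom (R := F) (finRotate 3)
    rw [Matrix.permMatrixHom_apply]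
    ext i k
    fin_cases i <;> fin_cases k <;>
      simp [SL3Presentation.mC, Equiv.Perm.permMatrix, PEquiv.toMatrix_apply, Equiv.Perm.inv_def,
        Equiv.symm_apply_eq] <;> decide
  rw [e]
  refine place_perm _ _ _ (fun k => ?_) (fun i hi => ?_)
  · show rot3.1 (base3 k) = base3 (finRotate 3 k)
    rw [rot3_base3, finRotate_apply]
  · have h0 : i ≠ q0 := fun h => hi ⟨0, h.symm⟩
    have h1 : i ≠ q1 := fun h => hi ⟨1, h.symm⟩
    have h2 : i ≠ q2 := fun h => hi ⟨2, h.symm⟩
    show Equiv.swap (q0 : Pt j) q1 (Equiv.swap q1 q2 i) = i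
    rw [Equiv.swap_apply_of_ne_of_ne h1 h2, Equiv.swap_apply_of_ne_of_ne h0 h1]

theorem std3_conj {p : Alt2 (Fin (j + 2))} (hp0 : p.1 (q0 : Pt j) = q1) (hp1 : p.1 (q1 : Pt j) = q0)
    (hp2 : p.1 (q2 : Pt j) = q2) (g : Matrix.SpecialLinearGroup (Fin 3) F) :
    (permHom p : Matrix.SpecialLinearGroup (Pt j) F) * std3 g * (permHom p)⁻¹ = std3 (tau g) := by
  have hb : ∀ i, p.1 (base3 i : Pt j) = base3 (Equiv.swap (0 : Fin 3) 1 i) := by
    intro i
    fin_cases i
    · simpa [base3] using hp0
    · simpa [base3] using hp1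
    · simpa [base3, Equiv.swap_apply_def] using hp2
  have e : (MulAut.conj (permHom p : Matrix.SpecialLinearGroup (Pt j) F)).toMonoidHom.comp std3 =
      std3.comp tau := by
    have htop : ((MulAut.conj (permHom p : Matrix.SpecialLinearGroup (Pt j) F)).toMonoidHom.comp std3).eqLocus
        (std3.comp tau) = ⊤ := by
      refine LinGroup.eq_top_of_transvection_mem _ fun i k hik c => ?_
      have hs : Matrix.SpecialLinearGroup.transvection hik c = emb hik (upper c) := sl_ext (by
        rw [emb_upper, LinGroup.coe_transvection]; rfl)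
      show permHom p * std3 _ * (permHom p)⁻¹ = std3 (tau _)
      rw [hs, std3_emb, perm_emb _ _ (p.1.injective.ne (base3_injective.ne hik)) rfl rfl, tau,
        MulEquiv.coe_toMonoidHom, reindex_emb, std3_emb]
      congr 1 <;> simp only [hb]
    exact MonoidHom.eq_of_eqOn_top fun x _ => (htop ▸ Subgroup.mem_top x : x ∈ _)
  exact DFunLike.congr_fun e g

end Cfsg.Agent.Lib.SLShort
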