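import Mathlib
import Cfsg.Agent.Lib.SLShort.Glue

/-!
Few relators force the relations of the glued groups.
-/

set_option autoImplicit false

namespace Cfsg.Agent.Lib.SLShort

open Equiv Equiv.Perm Cfsg.Agent.Lib.SL2 Cfsg.Agent.Lib.SpFourPresentation Cfsg.Agent.Lib.BoundedPresentation
  Cfsg.Agent.Lib.BoundedPresentation.Pt Cfsg.Agent.Lib.BoundedPresentation.SLGlue
  Cfsg.Agent.Lib.BoundedPresentation.SLStd

variable {j : ℕ}

/-- An element interchanging the first two marked points, fixing the third, with the long cycle. -/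
structure Pivots (p s : Alt2 (Fin (j + 2))) (b : Bool) : Prop where
  markp : Marks true p
  marks : Marks b s
  conj3 : p * rot3 * p⁻¹ = rot3⁻¹
  all : ∀ x : Alt2 (Fin (j + 2)), x.1 (q0 : Pt j) = q0 → x.1 (q1 : Pt j) = q1 →
    x ∈ Subgroup.closure ({p, s} : Set (Alt2 (Fin (j + 2))))

theorem exists_pivots (hj : 1 ≤ j) : ∃ (p s : Alt2 (Fin (j + 2))) (b : Bool), Pivots p s b := by
  classical
  let r3 : Rest j := ⟨q3, by simp [q0, q1, q3]⟩
  let r4 : Rest j := ⟨Sum.inl ⟨2, by omega⟩, by simp [q0, q1]⟩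
  have h34 : r3 ≠ r4 := by simp [r3, r4, Subtype.ext_iff, q3]
  set l : List (Rest j) := r3 :: r4 :: ((Finset.univ.erase r3).erase r4).toList with hl
  have hnd : l.Nodup := by
    simp only [hl, List.nodup_cons, List.mem_cons, Finset.mem_toList, Finset.mem_erase, Finset.mem_univ, and_true,
      Finset.nodup_toList]
    tauto
  have hall : l.toFinset = Finset.univ := by
    ext z
    simp only [hl, List.mem_toFinset, List.mem_cons, Finset.mem_toList, Finset.mem_erase, Finset.mem_univ, and_true,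
      iff_true]
    tauto
  set c := l.formPerm
  have hc : IsCycle c := List.isCycle_formPerm hnd (by simp [hl])
  have hs : c.support = Finset.univ := by
    rw [← hall]; exact List.support_formPerm_of_nodup l hnd (fun z => by simp [hl])
  have hc2 : c r3 = r4 := List.formPerm_apply_head _ _ _ (hl ▸ hnd)
  have htop := closure_cycle_adjacent_swap hc hs r3
  rw [hc2] at htop
  have hsign : sign (swap r3 r4) = -1 := sign_swap h34
  refine ⟨restLift (swap r3 r4), restLift c, decide (sign c ≠ 1), ?_, restLift_marks c, ?_, fun x h0 h1 => ?_⟩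
  · have := restLift_marks (swap r3 r4)
    rwa [hsign, decide_eq_true (by decide : (-1 : ℤˣ) ≠ 1)] at this
  · refine Subtype.ext ?_
    show (restLift (swap r3 r4)).1 * rot3.1 * ((restLift (swap r3 r4)).1)⁻¹ = (rot3.1)⁻¹
    rw [restLift_apply, ofSubtype_swap_eq, hsign, if_neg (by decide)]
    show swap (r3 : Pt j) r4 * swap q0 q1 * (swap q0 q1 * swap q1 q2) * (swap (r3 : Pt j) r4 * swap q0 q1)⁻¹ =
      (swap q0 q1 * swap q1 q2)⁻¹
    have e1 : Commute (swap (r3 : Pt j) r4) (swap q1 q2) := by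
      refine Perm.Disjoint.commute fun z => ?_
      simp only [swap_apply_def, r3, r4, q1, q2, q3]
      split_ifs <;> simp_all
    rw [_root_.mul_inv_rev, _root_.mul_inv_rev, swap_inv, swap_inv, swap_inv,
      show swap (r3 : Pt j) r4 * swap q0 q1 * (swap q0 q1 * swap q1 q2) * (swap q0 q1 * swap (r3 : Pt j) r4) =
        swap (r3 : Pt j) r4 * (swap q0 q1 * swap q0 q1) * swap q1 q2 * swap q0 q1 * swap (r3 : Pt j) r4 by group,
      swap_mul_self, mul_one, e1.eq]
    have e2 : Commute (swap (r3 : Pt j) r4) (swap q0 q1) := by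
      refine Perm.Disjoint.commute fun z => ?_
      simp only [swap_apply_def, r3, r4, q0, q1, q3]
      split_ifs <;> simp_all
    rw [mul_assoc _ (swap q0 q1), ← e2.eq, ← mul_assoc, mul_assoc (swap q1 q2) _ (swap (r3 : Pt j) r4),
      swap_mul_self, mul_one]
  · have hP : ∀ z, (x.1 z ≠ q0 ∧ x.1 z ≠ q1) ↔ (z ≠ (q0 : Pt j) ∧ z ≠ q1) := fun z => by
      constructor <;> rintro ⟨a, b⟩ <;> constructor <;> intro e
      exacts [a (by rw [e]; exact h0), b (by rw [e]; exact h1), a (x.1.injective (e.trans h0.symm)),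
        b (x.1.injective (e.trans h1.symm))]
    let σ' : Perm (Rest j) := Perm.subtypePerm (p := fun z : Pt j => z ≠ q0 ∧ z ≠ q1) x.1 hP
    have hx : restLift σ' = x := by
      apply Subtype.ext
      rw [restLift_apply]
      have e : ofSubtype σ' = x.1 := ofSubtype_subtypePerm (p := fun z : Pt j => z ≠ q0 ∧ z ≠ q1) hP fun z hz => by
        by_contra h
        exact hz (by rcases not_and_or.1 h with h | h <;> rw [not_not.1 h] <;> assumption)
      have es : sign σ' = 1 := by
        rw [← sign_ofSubtype, e]; exact mem_alternatingGroup.1 x.2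
      rw [e, if_pos es, mul_one]
    have hmem : σ' ∈ Subgroup.closure ({c, swap r3 r4} : Set (Perm (Rest j))) := by
      rw [htop]; trivial
    have := Subgroup.mem_map_of_mem restLift hmem
    rw [MonoidHom.map_closure, Set.image_pair, hx, Set.pair_comm] at this
    exact this

variable {F : Type*} [Field F] [Fintype F] {G : Type*} [Group G]

theorem stab_of_pivots {ω : Fˣ} (T : Setting ω) {p s : Alt2 (Fin (j + 2))} {b : Bool} (hp : Pivots p s b)
    (ρ : Alt2 (Fin (j + 2)) →* G) (θ : Matrix.SpecialLinearGroup (Fin 3) F →* G)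
    (h3 : θ SL3Presentation.mC = ρ rot3)
    (h1 : ρ p * θ (partner ω) * (ρ p)⁻¹ = θ (tau (partner ω)))
    (hs : ∀ i, ρ s * first θ (symGen ω i) * (ρ s)⁻¹ = first θ (cond b (symGen ω i)⁻¹ (symGen ω i))) :
    Stab ω ρ (first θ) := by
  have hnorm : ∀ g, ρ p * θ g * (ρ p)⁻¹ = θ (tau g) := by
    intro g
    have e : (MulAut.conj (ρ p)).toMonoidHom.comp θ = θ.comp tau := by
      refine MonoidHom.eq_of_eqOn_dense (closure_partner T.gen) ?_
      rintro _ (rfl | rfl)
      · show ρ p * θ _ * (ρ p)⁻¹ = θ (tau _)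
        rw [tau_mC, map_inv θ, h3, ← map_inv ρ p, ← map_mul, ← map_mul, hp.conj3, map_inv]
      · exact h1
    exact DFunLike.congr_fun e g
  let A : Bool → SLtwo F →* SLtwo F := fun b => cond b flipJ (MonoidHom.id _)
  have hflip : ∀ g : SLtwo F, flipJ (flipJ g) = g := fun g => by
    apply ext_entries <;> simp [flipJ, ofEntries_coe]
  have hA : ∀ b c g, A b (A c g) = A (xor b c) g := fun b c g => by
    cases b <;> cases c <;> simp [A, hflip]
  let act : Bool → Alt2 (Fin (j + 2)) → Prop := fun b y => ∀ g, ρ y * first θ g * (ρ y)⁻¹ = first θ (A b g)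
  have actp : act true p := fun g => by
    show ρ p * θ (e01 g) * (ρ p)⁻¹ = θ (e01 (flipJ g))
    rw [hnorm, tau_e01]
  have acts : act b s := by
    intro g
    have e : (MulAut.conj (ρ s)).toMonoidHom.comp (first θ) = (first θ).comp (A b) := by
      refine MonoidHom.eq_of_eqOn_dense (closure_symGen T.gen T.span) ?_
      rintro _ ⟨i, rfl⟩
      show ρ s * first θ _ * (ρ s)⁻¹ = first θ (A b _)
      rw [hs i]
      cases b
      · rfl
      · exact congrArg (first θ) (flipJ_symGen ω i).symm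
    exact DFunLike.congr_fun e g
  have key : ∀ x ∈ Subgroup.closure ({p, s} : Set (Alt2 (Fin (j + 2)))), ∃ b, Marks b x ∧ act b x := by
    intro x hx
    induction hx using Subgroup.closure_induction with
    | mem y hy =>
      rcases hy with rfl | rfl
      · exact ⟨true, hp.markp, actp⟩
      · exact ⟨b, hp.marks, acts⟩
    | one => exact ⟨false, ⟨rfl, rfl⟩, fun g => by simp [A]⟩
    | mul y z _ _ hy hz =>
      obtain ⟨b, ⟨y0, y1⟩, ha⟩ := hy
      obtain ⟨c, ⟨z0, z1⟩, hc⟩ := hz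
      refine ⟨xor b c, ⟨?_, ?_⟩, fun g => ?_⟩
      · show y.1 (z.1 q0) = _
        rw [z0]; cases b <;> cases c <;> simp_all
      · show y.1 (z.1 q1) = _
        rw [z1]; cases b <;> cases c <;> simp_all
      · rw [map_mul, show ρ y * ρ z * first θ g * (ρ y * ρ z)⁻¹ = ρ y * (ρ z * first θ g * (ρ z)⁻¹) * (ρ y)⁻¹ by
          group, hc g, ha (A c g), hA]
    | inv y _ hy =>
      obtain ⟨b, ⟨hb0, hb1⟩, ha⟩ := hy
      refine ⟨b, ?_, fun g => ?_⟩
      · cases b
        · exact ⟨Perm.inv_eq_iff_eq.2 hb0.symm, Perm.inv_eq_iff_eq.2 hb1.symm⟩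
        · exact ⟨Perm.inv_eq_iff_eq.2 hb1.symm, Perm.inv_eq_iff_eq.2 hb0.symm⟩
      · have h := ha (A b g)
        rw [hA, Bool.xor_self] at h
        rw [map_inv]
        conv_lhs => rw [show first θ g = ρ y * first θ (A b g) * (ρ y)⁻¹ from h.symm]
        group
  have hst : ∀ x : Alt2 (Fin (j + 2)), x.1 (q0 : Pt j) = q0 → x.1 (q1 : Pt j) = q1 → act false x := by
    intro x h0 h1
    obtain ⟨c, hm, ha⟩ := key x (hp.all x h0 h1)
    cases c
    · exact ha
    · exact absurd (hm.1.symm.trans h0) (by simpa using (ne01 (j := j)).symm)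
  -- the interchange differs from `p` by an element of the stabiliser
  have hq : act true piv := by
    intro g
    have f0 : (piv * p⁻¹ : Alt2 (Fin (j + 2))).1 (q0 : Pt j) = q0 := by
      show piv.1 ((p.1)⁻¹ q0) = q0
      rw [show (p.1)⁻¹ q0 = q1 from Perm.inv_eq_iff_eq.2 hp.markp.2.symm, piv_q1]
    have f1 : (piv * p⁻¹ : Alt2 (Fin (j + 2))).1 (q1 : Pt j) = q1 := by
      show piv.1 ((p.1)⁻¹ q1) = q1
      rw [show (p.1)⁻¹ q1 = q0 from Perm.inv_eq_iff_eq.2 hp.markp.1.symm, piv_q0]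
    have h := hst _ f0 f1 (A true g)
    rw [show (piv : Alt2 (Fin (j + 2))) = (piv * p⁻¹) * p by group, map_mul,
      show ρ (piv * p⁻¹) * ρ p * first θ g * (ρ (piv * p⁻¹) * ρ p)⁻¹ =
        ρ (piv * p⁻¹) * (ρ p * first θ g * (ρ p)⁻¹) * (ρ (piv * p⁻¹))⁻¹ by group, actp g]
    exact h
  refine ⟨fun x h0 h1 => ⟨?_, ?_⟩, ?_, ?_⟩
  · exact mul_inv_eq_iff_eq_mul.1 (hst x h0 h1 _)
  · exact mul_inv_eq_iff_eq_mul.1 (hst x h0 h1 _)
  · rw [hq]
    exact congrArg (first θ) (by apply ext_entries <;> simp [A, flipJ, ofEntries_coe])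
  · rw [hq, ← map_inv]
    exact congrArg (first θ) (by
      show flipJ (diag ω) = _
      apply ext_entries <;> simp [flipJ, ofEntries_coe, Matrix.adjugate_fin_two])

theorem stab_four {ω : Fˣ} (T : Setting ω) (ρ : Alt2 (Fin (0 + 2)) →* G)
    (θ : Matrix.SpecialLinearGroup (Fin 3) F →* G)
    (fu : ρ piv * first θ (upper 1) * (ρ piv)⁻¹ = first θ (lower 1))
    (fh : ρ piv * first θ (diag ω) * (ρ piv)⁻¹ = (first θ (diag ω))⁻¹) : Stab ω ρ (first θ) :=
  stab_of_list T (closure_symGen T.gen T.span) (flipJ_symGen ω) stabGens_nil ρ (first θ)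
    (fun _ h => absurd h List.not_mem_nil) fu fh

omit [Fintype F] in
/-- One commutation relation gives the other once there is a fifth point. -/
theorem glued_of_par {ω : Fˣ} (T : Setting ω) (hj : 1 ≤ j) (ρ : Alt2 (Fin (j + 2)) →* G)
    (θ : Matrix.SpecialLinearGroup (Fin 3) F →* G) (h3 : θ SL3Presentation.mC = ρ rot3)
    (S0 : Stab ω ρ (first θ)) (h4 : Commute (first θ (upper 1)) (rootHom ρ (first θ) q2 q3 (upper 1))) :
    Glued ω ρ θ := by
  let r : Pt j := Sum.inl ⟨2, by omega⟩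
  have h23 : (q2 : Pt j) ≠ q3 := by simp [q2, q3]
  have h3r : (q3 : Pt j) ≠ r := by simp [q3, r]
  have h2r : (q2 : Pt j) ≠ r := by simp [q2, r]
  let σ : Alt2 (Fin (j + 2)) := ⟨swap q2 q3 * swap q3 r, by
    rw [mem_alternatingGroup, map_mul, sign_swap h23, sign_swap h3r]; rfl⟩
  have f : ∀ z, z ≠ (q2 : Pt j) → z ≠ q3 → z ≠ r → σ.1 z = z := fun z a b c => by
    show swap (q2 : Pt j) q3 (swap q3 r z) = z
    rw [swap_apply_of_ne_of_ne b c, swap_apply_of_ne_of_ne a b]
  have t0 : σ.1 q0 = q0 := f _ (by simp [q0, q2]) (by simp [q0, q3]) (by simp [q0, r])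
  have t1 : σ.1 q1 = q1 := f _ (by simp [q1, q2]) (by simp [q1, q3]) (by simp [q1, r])
  have t2 : σ.1 q2 = q3 := by
    show swap (q2 : Pt j) q3 (swap q3 r q2) = q3
    rw [swap_apply_of_ne_of_ne h23 h2r, swap_apply_left]
  have t3 : σ.1 q3 = r := by
    show swap (q2 : Pt j) q3 (swap q3 r q3) = r
    rw [swap_apply_left, swap_apply_of_ne_of_ne h2r.symm h3r.symm]
  have tr : σ.1 r = q2 := by
    show swap (q2 : Pt j) q3 (swap q3 r r) = q2
    rw [swap_apply_right, swap_apply_right]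
  have hfix : cj ρ σ (first θ (upper 1)) = first θ (upper 1) :=
    mul_inv_eq_iff_eq_mul.2 (stab_comm T S0 t0 t1 _).eq
  have e1 : Commute (first θ (upper 1)) (rootHom ρ (first θ) q3 r (upper 1)) := by
    have e := h4.map (cj ρ σ)
    rwa [cj_root T S0 σ h23 t2 t3, hfix] at e
  have e2 : Commute (first θ (upper 1)) (rootHom ρ (first θ) r q2 (upper 1)) := by
    have e := e1.map (cj ρ σ)
    rwa [cj_root T S0 σ h3r t3 tr, hfix] at e
  refine ⟨h3, S0, h4, ?_⟩
  -- the root element is a commutator of two root elements of a triangle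
  let D' : ∀ (a b c : Pt j), a ≠ b → a ≠ c → b ≠ c →
      ∃ Φ : Matrix.SpecialLinearGroup (Fin 3) F →* G, ∀ {i k : Fin 3} (h : i ≠ k) (g : SLtwo F),
        Φ (emb h g) = rootHom ρ (first θ) (![a, b, c] i) (![a, b, c] k) g :=
    fun a b c hab hac hbc => exists_triangle_of_stab T h3 S0 hab hac hbc
  obtain ⟨Φ, hΦ⟩ := D' q3 r q2 h3r h23.symm h2r.symm
  obtain ⟨-, -, -, -, -, -, e7⟩ := tri_rels (F := F) ω (show (0 : Fin 3) ≠ 1 by decide)
    (show (0 : Fin 3) ≠ 2 by decide) (show (1 : Fin 3) ≠ 2 by decide)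
  have f7 := congrArg Φ e7
  simp only [map_mul, map_inv, hΦ] at f7
  simp only [Matrix.cons_val_zero, Matrix.cons_val_one, Matrix.cons_val] at f7
  rw [← f7]
  exact ((e1.mul_right e2).mul_right e1.inv_right).mul_right e2.inv_right

end Cfsg.Agent.Lib.SLShort
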