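import Mathlib
import Cfsg.Agent.Lib.BoundedPresentation.Pres

/-!
Gluing two presented groups along an element of known order saves the relator for that order.
-/

set_option autoImplicit false

namespace Cfsg.Agent.Lib.SLShort

open Subgroup Cfsg.Agent.Lib.BoundedPresentation

universe u v w

/-- A presentation lacking the relator `x₀ ^ e` for one named element `x₀`. -/
def PresButPow {ι : Type} {H : Type u} [Group H] (N : ι → H) (b₀ : ι) (e r : ℕ) : Prop :=
  ∃ R : Finset (FreeGroup ι), R.card ≤ r ∧ (∀ x ∈ R, FreeGroup.lift N x = 1) ∧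
    ∀ (G : Type) [Group G] (y : ι → G), (∀ x ∈ R, FreeGroup.lift y x = 1) → y b₀ ^ e = 1 →
      ∃ ψ : H →* G, ∀ i, ψ (N i) = y i

theorem combine_drop {ι₁ ι₂ : Type} {G₁ : Type v} {G₂ : Type w} {H : Type u} [Group G₁] [Group G₂] [Group H]
    {N₁ : ι₁ → G₁} {N₂ : ι₂ → G₂} {r₁ r₂ e : ℕ} {b₀ : ι₂} {z₀ : G₁} (hz : z₀ ^ e = 1)
    (h₁ : Pres N₁ r₁) (g₁ : closure (Set.range N₁) = ⊤)
    (h₂ : PresButPow N₂ b₀ e r₂) (g₂ : closure (Set.range N₂) = ⊤) (φ₁ : G₁ →* H) (φ₂ : G₂ →* H)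
    (hab : φ₂ (N₂ b₀) = φ₁ z₀) (gl : List (FreeGroup (G₁ ⊕ G₂))) (hgl : ∀ z ∈ gl, glueEval φ₁ φ₂ z = 1)
    (recon : ∀ (G : Type) [Group G] (ψ₁ : G₁ →* G) (ψ₂ : G₂ →* G), ψ₂ (N₂ b₀) = ψ₁ z₀ →
      (∀ z ∈ gl, glueEval ψ₁ ψ₂ z = 1) → ∃ Ψ : H →* G, (∀ g, Ψ (φ₁ g) = ψ₁ g) ∧ ∀ g, Ψ (φ₂ g) = ψ₂ g) :
    Pres (Sum.elim (fun i => φ₁ (N₁ i)) (fun i => φ₂ (N₂ i))) (r₁ + r₂ + 1 + gl.length) := by
  classical
  obtain ⟨R₁, W₁, c₁, t₁, hW₁, d₁⟩ := h₁.words g₁
  obtain ⟨R₂, c₂, t₂, d₂⟩ := h₂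
  choose W₂ hW₂ using exists_word g₂
  set sb : G₁ ⊕ G₂ → FreeGroup (ι₁ ⊕ ι₂) :=
    Sum.elim (fun g => FreeGroup.map Sum.inl (W₁ g)) (fun g => FreeGroup.map Sum.inr (W₂ g)) with hsb
  set ident : FreeGroup (ι₁ ⊕ ι₂) := FreeGroup.of (Sum.inr b₀) * (FreeGroup.map Sum.inl (W₁ z₀))⁻¹ with hid
  refine ⟨insert ident (R₁.image (FreeGroup.map Sum.inl) ∪ R₂.image (FreeGroup.map Sum.inr) ∪
    (gl.map (FreeGroup.lift sb)).toFinset), ?_, ?_, ?_⟩
  · refine (Finset.card_insert_le _ _).trans ?_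
    have h := (Finset.card_union_le (R₁.image (FreeGroup.map Sum.inl) ∪ R₂.image (FreeGroup.map Sum.inr))
      (gl.map (FreeGroup.lift sb)).toFinset).trans (Nat.add_le_add ((Finset.card_union_le _ _).trans
        (Nat.add_le_add (Finset.card_image_le.trans c₁) (Finset.card_image_le.trans c₂)))
      ((List.toFinset_card_le _).trans (le_of_eq (List.length_map _))))
    omega
  · intro x hx
    simp only [Finset.mem_insert, Finset.mem_union, Finset.mem_image, List.mem_toFinset, List.mem_map] at hx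
    rcases hx with rfl | (⟨z, hz, rfl⟩ | ⟨z, hz, rfl⟩) | ⟨z, hz, rfl⟩
    · rw [hid, map_mul, map_inv, FreeGroup.lift_apply_of, lift_map_comp, Sum.elim_comp_inl, ← map_lift, hW₁,
        Sum.elim_inr, hab, mul_inv_cancel]
    · rw [lift_map_comp, Sum.elim_comp_inl, ← map_lift, t₁ z hz, map_one]
    · rw [lift_map_comp, Sum.elim_comp_inr, ← map_lift, t₂ z hz, map_one]
    · rw [lift_lift, ← hgl z hz, glueEval]
      refine congrArg (fun F => FreeGroup.lift F z) ?_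
      funext a
      rcases a with g | g <;>
        simp only [hsb, Sum.elim_inl, Sum.elim_inr, lift_map_comp, Sum.elim_comp_inl, Sum.elim_comp_inr,
          ← map_lift, hW₁, hW₂]
  · intro G _ y hy
    obtain ⟨ψ₁, e₁, w₁⟩ := d₁ G (y ∘ Sum.inl) fun z hz => by
      rw [← lift_map_comp]
      exact hy _ (Finset.mem_insert_of_mem (Finset.mem_union_left _ (Finset.mem_union_left _
        (Finset.mem_image_of_mem _ hz))))
    have hi := hy ident (Finset.mem_insert_self _ _)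
    rw [hid, map_mul, map_inv, FreeGroup.lift_apply_of, lift_map_comp, mul_inv_eq_one, ← w₁] at hi
    obtain ⟨ψ₂, e₂⟩ := d₂ G (y ∘ Sum.inr) (fun z hz => by
      rw [← lift_map_comp]
      exact hy _ (Finset.mem_insert_of_mem (Finset.mem_union_left _ (Finset.mem_union_right _
        (Finset.mem_image_of_mem _ hz))))) (by
      show y (Sum.inr b₀) ^ e = 1
      rw [hi, ← map_pow, hz, map_one])
    have w₂ : ∀ g, ψ₂ g = FreeGroup.lift (y ∘ Sum.inr) (W₂ g) := fun g => by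
      conv_lhs => rw [← hW₂ g]
      rw [map_lift]
      simp only [e₂]
    obtain ⟨Ψ, p₁, p₂⟩ := recon G ψ₁ ψ₂ (by rw [e₂]; exact hi) fun z hz => by
      have := hy _ (Finset.mem_insert_of_mem (Finset.mem_union_right _
        (List.mem_toFinset.2 (List.mem_map_of_mem hz))))
      rw [lift_lift] at this
      rw [← this, glueEval]
      refine congrArg (fun F => FreeGroup.lift F z) ?_
      funext a
      rcases a with g | g <;> simp only [hsb, Sum.elim_inl, Sum.elim_inr, lift_map_comp, w₁, w₂]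
    refine ⟨Ψ, fun i => ?_⟩
    rcases i with i | i
    · simp only [Sum.elim_inl, p₁, e₁, Function.comp_apply]
    · simp only [Sum.elim_inr, p₂, e₂, Function.comp_apply]

end Cfsg.Agent.Lib.SLShort
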