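import Mathlib
import Cfsg.Agent.Lib.BoundedPresentation.SLThree
import Cfsg.Agent.Lib.SLShort.Drop

/-!
Thirteen relators present `SL₃` once the cyclic permutation has order three.
-/

set_option autoImplicit false

namespace Cfsg.Agent.Lib.SLShort

open Cfsg.Agent.Lib.SL3Presentation Matrix Cfsg.Agent.Lib.BoundedPresentation.SLThree

theorem mem_eraseIdx_or {α : Type*} : ∀ (l : List α) (n : ℕ) (x : α), x ∈ l → x ∈ l.eraseIdx n ∨ l[n]? = some x
  | [], _, _, h => absurd h List.not_mem_nil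
  | a :: l, 0, x, h => by rcases List.mem_cons.1 h with rfl | h <;> simp [*]
  | a :: l, n + 1, x, h => by
    rcases List.mem_cons.1 h with rfl | h
    · simp
    · rcases mem_eraseIdx_or l n x h with e | e <;> simp [e]

/-- Thirteen relators and the order of the cyclic permutation present `SL₃`. -/
theorem presButPow_sl_three (F : Type*) [Field F] [Fintype F] :
    ∃ N : Fin 4 → Matrix.SpecialLinearGroup (Fin 3) F,
      N 2 = mC ∧ Subgroup.closure (Set.range N) = ⊤ ∧ PresButPow N 2 3 13 := by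
  classical
  obtain ⟨p, hchar⟩ := CharP.exists F
  haveI := hchar
  have hp : p.Prime := CharP.char_is_prime F p
  haveI : Fact p.Prime := ⟨hp⟩
  letI : Algebra (ZMod p) F := ZMod.algebra F p
  obtain ⟨w, hw⟩ := IsCyclic.exists_generator (α := Fˣ)
  have hω : ∀ x : F, x ≠ 0 → ∃ i : ℕ, (w : F) ^ i = x := by
    intro x hx
    obtain ⟨i, hi⟩ := (IsOfFinOrder.mem_zpowers_iff_mem_range_orderOf (isOfFinOrder_of_finite w)).mp
      (hw (Units.mk0 x hx)) |> Finset.mem_image.mp
    exact ⟨i, by rw [← Units.val_pow_eq_pow_val, hi.2, Units.val_mk0]⟩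
  set q := Fintype.card F with hqdef
  have hq : 2 ≤ q := Fintype.one_lt_card
  have hN : (w : F) ^ (q - 1) = 1 := FiniteField.pow_card_sub_one_eq_one _ w.ne_zero
  -- the parameters
  obtain ⟨b, hb⟩ : ∃ b : ℕ, decide (q = 2) = false → (w : F) = 1 + (w : F) ^ b := by
    rcases eq_or_ne (w : F) 1 with h1 | h1
    · refine ⟨0, fun h => absurd ?_ (of_decide_eq_false h)⟩
      have := orderOf_of_generates hω w.ne_zero
      rw [h1, orderOf_one] at this
      omega
    · obtain ⟨b, hb⟩ := hω _ (sub_ne_zero.mpr h1)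
      exact ⟨b, fun _ => by rw [hb, add_sub_cancel]⟩
  obtain ⟨k, hkk, hk⟩ : ∃ k : ℕ, ((p = 2 ∧ k = 0) ∨ ((w : F) ^ k = -1 ∧ 2 * k = q - 1)) ∧ (w : F) ^ k = -1 := by
    rcases eq_or_ne p 2 with rfl | h2
    · refine ⟨0, Or.inl ⟨rfl, rfl⟩, ?_⟩
      rw [pow_zero]; exact (neg_eq_of_add_eq_zero_left (CharTwo.add_self_eq_zero (1 : F))).symm
    · have hodd : Odd q := by
        rw [hqdef, ← Nat.not_even_iff_odd]
        intro he
        have h2F : ringChar F = 2 := (FiniteField.even_card_iff_char_two).mpr (Nat.even_iff.mp he)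
        exact h2 ((ringChar.eq F p).symm.trans h2F)
      obtain ⟨r, hr⟩ := hodd
      have h2k : 2 * r = q - 1 := by omega
      have hsq : (w : F) ^ r * (w : F) ^ r = 1 := by rw [← pow_add, ← two_mul, h2k, hN]
      rcases mul_self_eq_one_iff.mp hsq with h | h
      · exfalso
        have hord := orderOf_of_generates hω w.ne_zero
        have := orderOf_dvd_of_pow_eq_one h
        rw [hord] at this
        have := Nat.le_of_dvd (by omega) this
        omega
      · exact ⟨r, Or.inr ⟨h, h2k⟩, h⟩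
  set two : Bool := decide (q = 2) with htwo
  set four : Bool := decide (q = 4) with hfour
  set m := minpoly (ZMod p) (w : F) with hm
  let R : List (FreeGroup (Fin 4)) :=
    relList p b k (q - 1) m two four (FreeGroup.of 0) (FreeGroup.of 1) (FreeGroup.of 2) (FreeGroup.of 3)
  set G := PresentedGroup (↑R.toFinset : Set (FreeGroup (Fin 4))) with hG
  let mk : FreeGroup (Fin 4) →* G := PresentedGroup.mk _
  set u : G := mk (FreeGroup.of 0) with hu
  set t : G := mk (FreeGroup.of 1) with ht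
  set c : G := mk (FreeGroup.of 2) with hc
  set d : G := mk (FreeGroup.of 3) with hd
  have hrel : ∀ r ∈ relList p b k (q - 1) m two four u t c d, r = 1 := by
    rw [hu, ht, hc, hd, ← map_relList]
    intro r hr
    obtain ⟨r', hr', rfl⟩ := List.mem_map.mp hr
    exact PresentedGroup.one_of_mem (by rw [Finset.mem_coe, List.mem_toFinset]; exact hr')
  simp only [relList, List.forall_mem_cons, mul_inv_eq_one] at hrel
  obtain ⟨r1, r2, r3, r4, r5, r6, r7, r8, r9, r10, r11, r12, r13, r14, -⟩ := hrel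
  have horb : ((w : F) = 1 + (w : F) ^ b ∧ Commute u (orb u d b) ∧ d * u * d⁻¹ = u * orb u d b) ∨
      ((w : F) = 1 ∧ d = 1) := by
    rcases h2 : two with _ | _
    · rw [h2] at r1 r2 hb
      simp only [cond_false, mul_inv_eq_one] at r1 r2
      exact Or.inl ⟨hb rfl, r1, r2⟩
    · rw [h2] at r1
      refine Or.inr ⟨?_, r1⟩
      have hq2 : q = 2 := of_decide_eq_true h2
      simpa [hq2] using hN
  obtain ⟨hdN, φ, hφadd, hφ1, hφd⟩ := exists_orbit_hom p hω b u d horb r3 r4
  let D : Data F G :=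
    { t := t, c := c, d := d, φ := φ, ω := w, p := p, k := k, N := q - 1
      hω := hω, ω_ne := w.ne_zero, ω_pow := hN, hk := hkk
      hchar := fun h x => by subst h; exact CharTwo.add_self_eq_zero x
      φ_add := hφadd, φ_d := hφd, d_pow := hdN, c_cube := r5, d_comm := r6, d_prod := r7
      d2_u := by rw [hφ1, r8, ← hφ1, hφd, mul_one]
      t_u := by rw [hφ1]; exact r9
      t_d := eq_inv_of_mul_eq_one_left r10
      t_c := r11 }
  have hz : D.x02 1 = c ^ 2 * (t * u⁻¹ * t⁻¹) * (c ^ 2)⁻¹ := by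
    show c ^ 2 * (t * φ (-1) * t⁻¹) * (c ^ 2)⁻¹ = _
    rw [show φ (-1) = (φ 1)⁻¹ from D.φ_neg 1, hφ1]
  have hz' : D.x02 (w : F) = c ^ 2 * (t * (d * u⁻¹ * d⁻¹) * t⁻¹) * (c ^ 2)⁻¹ := by
    show c ^ 2 * (t * φ (-(w : F)) * t⁻¹) * (c ^ 2)⁻¹ = _
    rw [show φ (-(w : F)) = (φ w)⁻¹ from D.φ_neg _, ← mul_one (w : F), ← hφd, hφ1]
    group
  have hφw : φ (w : F) = d * u * d⁻¹ := by rw [← hφ1, hφd, mul_one]
  have hRels : D.Rels :=
    { row := by
        show φ 1 * D.x02 1 = D.x02 1 * φ 1
        rw [hφ1, hz]; exact r13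
      comm := by
        show φ 1 * (c * φ 1 * c⁻¹) * (φ 1)⁻¹ * (c * φ 1 * c⁻¹)⁻¹ = D.x02 1
        rw [hφ1, hz]; exact r12
      extra := by
        rcases h4 : four with _ | _
        · rw [h4, cond_false, mul_inv_eq_one] at r14
          refine Or.inl ⟨of_decide_eq_false h4, ?_⟩
          show c * φ 1 * c⁻¹ * D.x02 1 = D.x02 1 * (c * φ 1 * c⁻¹)
          rw [hφ1, hz]; exact r14
        · rw [h4, cond_true, mul_inv_eq_one] at r14
          refine Or.inr ⟨of_decide_eq_true h4, ?_⟩
          show φ (w : F) * (c * φ 1 * c⁻¹) * (φ (w : F))⁻¹ * (c * φ 1 * c⁻¹)⁻¹ = D.x02 (w : F)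
          rw [hφw, hφ1, hz']; exact r14 }
  have hgen : Subgroup.closure {D.φ 1, D.t, D.c, D.d} = ⊤ := by
    rw [eq_top_iff, ← PresentedGroup.closure_range_of (↑R.toFinset : Set (FreeGroup (Fin 4))),
      Subgroup.closure_le]
    rintro _ ⟨i, rfl⟩
    refine Subgroup.subset_closure ?_
    show _ ∈ ({φ 1, t, c, d} : Set G)
    rw [hφ1]
    fin_cases i
    exacts [Or.inl rfl, Or.inr (Or.inl rfl), Or.inr (Or.inr (Or.inl rfl)), Or.inr (Or.inr (Or.inr rfl))]
  obtain ⟨hfin, hcard⟩ := Data.finite_and_card_le hRels hgen rfl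
  -- the map onto `SL₃`
  have hdiag : w * 1 * w⁻¹ = 1 := by simp
  let f : Fin 4 → SpecialLinearGroup (Fin 3) F := ![mU 1, mT, mC, mD w 1 w⁻¹ hdiag]
  have hf : ∀ r ∈ (↑R.toFinset : Set (FreeGroup (Fin 4))), FreeGroup.lift f r = 1 := by
    intro r hr
    rw [Finset.mem_coe, List.mem_toFinset] at hr
    have : FreeGroup.lift f r ∈ R.map (FreeGroup.lift f) := List.mem_map_of_mem hr
    rw [map_relList] at this
    simp only [FreeGroup.lift_apply_of] at this
    exact relList_eq_one p b k two four w hdiag (fun h => by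
      have hq2 : q = 2 := of_decide_eq_true h
      apply Units.ext
      simpa [hq2] using hN) hb hk _ this
  let π : G →* SpecialLinearGroup (Fin 3) F := PresentedGroup.toGroup hf
  have hsurj : Function.Surjective π := by
    rw [← MonoidHom.range_eq_top, eq_top_iff, ← Cfsg.Agent.Lib.SL3Presentation.closure_eq_top hω hdiag,
      Subgroup.closure_le]
    intro g hg
    rw [SetLike.mem_coe, MonoidHom.mem_range]
    rcases hg with rfl | rfl | rfl | rfl
    · exact ⟨PresentedGroup.of 0, PresentedGroup.toGroup.of hf⟩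
    · exact ⟨PresentedGroup.of 1, PresentedGroup.toGroup.of hf⟩
    · exact ⟨PresentedGroup.of 2, PresentedGroup.toGroup.of hf⟩
    · exact ⟨PresentedGroup.of 3, PresentedGroup.toGroup.of hf⟩
  have hSL : (q - 1) * Nat.card G ≤ (q - 1) * Nat.card (SpecialLinearGroup (Fin 3) F) := by
    rw [hqdef, Cfsg.Agent.Lib.LinGroup.card_SL_mul 3 (by norm_num), ← hqdef]
    refine le_trans (Nat.mul_le_mul_left _ hcard) (le_of_eq ?_)
    simp only [Fin.prod_univ_three, Fin.val_zero, Fin.val_one, Fin.val_two, pow_zero, pow_one]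
    rw [← hqdef]
    have h1 : q ^ 3 - 1 = (q - 1) * (1 + q + q * q) := by
      zify [Nat.one_le_pow 3 q (by omega), (by omega : 1 ≤ q)]; ring
    have h2 : q ^ 3 - q = (q - 1) * q * (1 + q) := by
      zify [Nat.le_self_pow (by norm_num : 3 ≠ 0) q, (by omega : 1 ≤ q)]; ring
    have h3 : q ^ 3 - q ^ 2 = (q - 1) * (q * q) := by
      zify [Nat.pow_le_pow_right (by omega : 0 < q) (by norm_num : 2 ≤ 3), (by omega : 1 ≤ q)]; ring
    rw [h1, h2, h3]; ring
  let e : G ≃* SpecialLinearGroup (Fin 3) F := MulEquiv.ofBijective π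
    (Function.Surjective.bijective_of_nat_card_le hsurj (Nat.le_of_mul_le_mul_left hSL (by omega)))
  have he : ∀ i, e (PresentedGroup.of i) = f i := fun i => PresentedGroup.toGroup.of hf
  refine ⟨f, rfl, ?_, (R.eraseIdx 4).toFinset, le_trans (List.toFinset_card_le _)
    (le_of_eq (by simp [R, relList])), fun r hr => hf r ?_, fun H _ y hy hy3 => ?_⟩
  · have h := congrArg (Subgroup.map e.toMonoidHom) (PresentedGroup.closure_range_of
      (↑R.toFinset : Set (FreeGroup (Fin 4))))
    rw [MonoidHom.map_closure, ← Set.range_comp, Subgroup.map_top_of_surjective e.toMonoidHom e.surjective] at h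
    rw [← h]
    exact congrArg _ (congrArg _ (funext fun i => (he i).symm))
  · rw [Finset.mem_coe, List.mem_toFinset]
    exact List.mem_of_mem_eraseIdx (List.mem_toFinset.1 hr)
  · have hall : ∀ r ∈ (↑R.toFinset : Set (FreeGroup (Fin 4))), FreeGroup.lift y r = 1 := by
      intro r hr
      rw [Finset.mem_coe, List.mem_toFinset] at hr
      by_cases h : r ∈ R.eraseIdx 4
      · exact hy r (List.mem_toFinset.2 h)
      · have h5 := (mem_eraseIdx_or R 4 r hr).resolve_left h
        obtain rfl : FreeGroup.of 2 ^ 3 = r := Option.some.inj h5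
        rw [map_pow, FreeGroup.lift_apply_of]; exact hy3
    refine ⟨(PresentedGroup.toGroup hall).comp e.symm.toMonoidHom, fun i => ?_⟩
    rw [MonoidHom.comp_apply, ← he i]
    simp [PresentedGroup.toGroup.of]

end Cfsg.Agent.Lib.SLShort
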