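import Mathlib
import Cfsg.Agent.Lib.SLShort.Relations
import Cfsg.Agent.Lib.SLShort.Emb
import Cfsg.Agent.Lib.SLShort.Three

/-!
Relators for `SL_n` from a presentation of the alternating group.
-/

set_option autoImplicit false

namespace Cfsg.Agent.Lib.SLShort

open Equiv Equiv.Perm Cfsg.Agent.Lib.SL2 Cfsg.Agent.Lib.SpFourPresentation Cfsg.Agent.Lib.BoundedPresentation
  Cfsg.Agent.Lib.BoundedPresentation.Pt Cfsg.Agent.Lib.BoundedPresentation.SLGlue
  Cfsg.Agent.Lib.BoundedPresentation.SLStd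

universe uF

variable {j : ℕ}

theorem eq_top_of_rot3_mem {K : Subgroup (Alt2 (Fin (j + 2)))}
    (hn : ∀ σ, ∀ g ∈ K, σ * g * σ⁻¹ ∈ K) (h : rot3 ∈ K) : K = ⊤ := by
  classical
  rw [eq_top_iff, ← closure_cyc, Subgroup.closure_le]
  rintro _ ⟨i, rfl⟩
  have h3 : ∀ a b c : Pt j, a ≠ b → a ≠ c → b ≠ c → (swap a b * swap b c).IsThreeCycle := fun a b c hab hac hbc => by
    rw [swap_comm a b]
    exact isThreeCycle_swap_mul_swap_same hab.symm hbc hac
  have hrot : (rot3 : Alt2 (Fin (j + 2))).1.IsThreeCycle := h3 _ _ _ ne01 ne02 ne12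
  have hcyc : (cyc i : Alt2 (Fin (j + 2))).1.IsThreeCycle := by
    rw [cyc_coe, cycP]
    first
      | exact h3 _ _ _ (by simp) (by simp) (by simp)
      | (rw [swap_comm]; exact h3 _ _ _ (by simp) (by simp) (by simp))
  obtain ⟨π, hπ⟩ := isConj_iff.1 (isConj_iff_cycleType_eq.2 (hrot.cycleType.trans hcyc.cycleType.symm))
  rcases Int.units_eq_one_or (sign π) with e | e
  · have := hn ⟨π, e⟩ _ h
    rwa [show (⟨π, e⟩ : Alt2 (Fin (j + 2))) * rot3 * (⟨π, e⟩ : Alt2 (Fin (j + 2)))⁻¹ = cyc i from Subtype.ext hπ]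
      at this
  · have hinv : swap (q0 : Pt j) q1 * rot3.1 * (swap q0 q1)⁻¹ = (rot3.1)⁻¹ := by
      show swap (q0 : Pt j) q1 * (swap q0 q1 * swap q1 q2) * (swap q0 q1)⁻¹ = (swap q0 q1 * swap q1 q2)⁻¹
      rw [_root_.mul_inv_rev, swap_inv, swap_inv, ← mul_assoc (swap (q0 : Pt j) q1), swap_mul_self, one_mul]
    set π' : Alt2 (Fin (j + 2)) :=
      ⟨π * swap q0 q1, by rw [mem_alternatingGroup, map_mul, e, sign_swap ne01]; rfl⟩ with hπ'
    have := inv_mem (hn π' _ h)
    rwa [show (π' * rot3 * π'⁻¹)⁻¹ = cyc i from Subtype.ext (by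
      show (π * swap (q0 : Pt j) q1 * rot3.1 * (π * swap q0 q1)⁻¹)⁻¹ = _
      rw [← hπ, show π * swap (q0 : Pt j) q1 * rot3.1 * (π * swap q0 q1)⁻¹ =
        π * (swap q0 q1 * rot3.1 * (swap q0 q1)⁻¹) * π⁻¹ by group, hinv]
      group)] at this

variable {F : Type uF} [Field F] [Fintype F]

omit [Fintype F] in
/-- The two component maps generate. -/
theorem std_top (j : ℕ) : (permHom : Alt2 (Fin (j + 2)) →* Matrix.SpecialLinearGroup (Pt j) F).range ⊔
    (std3 : Matrix.SpecialLinearGroup (Fin 3) F →* Matrix.SpecialLinearGroup (Pt j) F).range = ⊤ := by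
  refine LinGroup.eq_top_of_transvection_mem _ fun a b hab c => ?_
  have e : Matrix.SpecialLinearGroup.transvection hab c = (permHom (pick a b) : Matrix.SpecialLinearGroup (Pt j) F) *
      std3 (e01 (upper c)) * (permHom (pick a b))⁻¹ := by
    rw [e01, std3_emb]
    refine Eq.trans ?_ (perm_emb (pick a b) _ hab (pick_spec hab).1 (pick_spec hab).2 _).symm
    exact sl_ext (by rw [emb_upper, LinGroup.coe_transvection]; rfl)
  rw [e]
  exact mul_mem (mul_mem (Subgroup.mem_sup_left ⟨_, rfl⟩) (Subgroup.mem_sup_right ⟨_, rfl⟩))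
    (inv_mem (Subgroup.mem_sup_left ⟨_, rfl⟩))

/-- Relators for `SL` on `j + 4` points from one list of glue relators. -/
theorem pres_assemble (j : ℕ) {ω : Fˣ} (T : Setting (F := F) ω)
    {ι : Type} {N : ι → Alt2 (Fin (j + 2))} {rA : ℕ} (hP1 : Pres N rA) (hc1 : Subgroup.closure (Set.range N) = ⊤)
    (gl : List (FreeGroup (Alt2 (Fin (j + 2)) ⊕ Matrix.SpecialLinearGroup (Fin 3) F)))
    (hgl : ∀ z ∈ gl, glueEval (permHom : Alt2 (Fin (j + 2)) →* Matrix.SpecialLinearGroup (Pt j) F) std3 z = 1)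
    (hglue : ∀ {G : Type uF} [Group G] (ρ : Alt2 (Fin (j + 2)) →* G) (θ : Matrix.SpecialLinearGroup (Fin 3) F →* G),
      θ SL3Presentation.mC = ρ rot3 → (∀ z ∈ gl, glueEval ρ θ z = 1) → Glued ω ρ θ) :
    ∃ M : ι ⊕ Fin 4 → Matrix.SpecialLinearGroup (Pt j) F,
      Pres M (rA + 13 + 1 + gl.length) ∧ Subgroup.closure (Set.range M) = ⊤ := by
  classical
  obtain ⟨N2, hN2, hc2, hP2⟩ := presButPow_sl_three F
  let φ₁ : Alt2 (Fin (j + 2)) →* Matrix.SpecialLinearGroup (Pt j) F := permHom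
  let φ₂ : Matrix.SpecialLinearGroup (Fin 3) F →* Matrix.SpecialLinearGroup (Pt j) F := std3
  let ident : FreeGroup (Alt2 (Fin (j + 2)) ⊕ Matrix.SpecialLinearGroup (Fin 3) F) :=
    FreeGroup.of (Sum.inr (N2 2)) * (FreeGroup.of (Sum.inl rot3))⁻¹
  have hcube : (rot3 : Alt2 (Fin (j + 2))) ^ 3 = 1 := by
    apply Subtype.ext
    have h3 : (rot3 : Alt2 (Fin (j + 2))).1.IsThreeCycle := by
      show (swap (q0 : Pt j) q1 * swap q1 q2).IsThreeCycle
      rw [swap_comm (q0 : Pt j) q1]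
      exact isThreeCycle_swap_mul_swap_same ne01.symm ne12 ne02
    have := pow_orderOf_eq_one (rot3 : Alt2 (Fin (j + 2))).1
    rw [h3.orderOf] at this
    simpa using this
  have hab : φ₂ (N2 2) = φ₁ rot3 := by rw [hN2]; exact std3_mC
  have hgl' : ∀ z ∈ ident :: gl, glueEval φ₁ φ₂ z = 1 := by
    intro z hz
    rcases List.mem_cons.1 hz with rfl | hz
    · simp [ident, hab]
    · exact hgl z hz
  have hbound : ∀ (G : Type uF) [Group G] (ρ : Alt2 (Fin (j + 2)) →* G)
      (θ : Matrix.SpecialLinearGroup (Fin 3) F →* G), (∀ z ∈ ident :: gl, glueEval ρ θ z = 1) →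
      ρ.range ⊔ θ.range = ⊤ → Finite G ∧ Nat.card G ≤ Nat.card (Matrix.SpecialLinearGroup (Pt j) F) := by
    intro G _ ρ θ hG hsup
    have hid : θ SL3Presentation.mC = ρ rot3 := by
      have h := hG ident (List.mem_cons_self ..)
      simp only [ident, map_mul, map_inv, glueEval_inl, glueEval_inr, mul_inv_eq_one, hN2] at h
      exact h
    have D : Glued ω ρ θ := hglue ρ θ hid fun z hz => hG z (List.mem_cons_of_mem _ hz)
    rw [← card_slBound j]
    refine SLGlue.bound ρ (first θ) T (base_of_glued T D) fun S hS => ?_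
    set S' : Subgroup G := Subgroup.closure
      {g | ∃ a b t, a ≠ b ∧ rootHom ρ (first θ) a b (upper t) = g} with hS'
    have hle : S' ≤ S := by
      rw [hS', Subgroup.closure_le]
      rintro _ ⟨a, b, t, hne, rfl⟩
      exact hS a b hne t
    have hconj : ∀ σ, ∀ g ∈ S', ρ σ * g * (ρ σ)⁻¹ ∈ S' := by
      intro σ
      have : S' ≤ S'.comap (cj ρ σ) := by
        conv_lhs => rw [hS']
        rw [Subgroup.closure_le]
        rintro _ ⟨a, b, t, hne, rfl⟩
        show cj ρ σ _ ∈ S'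
        rw [cj_root T D.st σ hne rfl rfl]
        exact Subgroup.subset_closure ⟨_, _, t, σ.1.injective.ne hne, rfl⟩
      exact fun g hg => this hg
    have hθ : θ.range ≤ S' := by
      have : S'.comap θ = ⊤ := by
        refine LinGroup.eq_top_of_transvection_mem _ fun i k hik c => ?_
        have hs : Matrix.SpecialLinearGroup.transvection hik c = emb hik (upper c) := sl_ext (by
          rw [emb_upper, LinGroup.coe_transvection]; rfl)
        rw [Subgroup.mem_comap, hs, base_triangle T D hik]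
        exact Subgroup.subset_closure ⟨_, _, c, base3_injective.ne hik, rfl⟩
      rintro _ ⟨g, rfl⟩
      exact (this ▸ Subgroup.mem_top g : g ∈ S'.comap θ)
    have hρ : ρ.range ≤ S' := by
      have : S'.comap ρ = ⊤ := by
        refine eq_top_of_rot3_mem (fun σ g hg => ?_) ?_
        · rw [Subgroup.mem_comap, map_mul, map_mul, map_inv]; exact hconj σ _ hg
        · rw [Subgroup.mem_comap, ← hid]; exact hθ ⟨_, rfl⟩
      rintro _ ⟨g, rfl⟩
      exact (this ▸ Subgroup.mem_top g : g ∈ S'.comap ρ)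
    exact top_le_iff.1 (hsup ▸ (sup_le hρ hθ).trans hle)
  refine ⟨_, combine_drop hcube hP1 hc1 hP2 hc2 φ₁ φ₂ hab gl hgl ?_,
    range_sum_elim hc1 hc2 φ₁ φ₂ (std_top j)⟩
  intro G _ ψ₁ ψ₂ h0 h
  exact recon_of_card φ₁ φ₂ (std_top j) (ident :: gl) hgl' hbound G ψ₁ ψ₂ (fun z hz => by
    rcases List.mem_cons.1 hz with rfl | hz
    · simp [ident, h0]
    · exact h z hz)

omit [Fintype F] in
theorem std_par (x y : Pt j) (ho : Ori x y) :
    Commute (std3 (e01 (upper (1 : F))) : Matrix.SpecialLinearGroup (Pt j) F)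
      ((permHom (pick x y) : Matrix.SpecialLinearGroup (Pt j) F) * std3 (e01 (upper 1)) *
        (permHom (pick x y))⁻¹) := by
  obtain ⟨n0, n0', n1, n1', nxy⟩ := ori_ne ho
  rw [e01, std3_emb]
  show Commute (emb (ne01 (j := j)) (upper (1 : F))) (permHom (pick x y) * emb (ne01 (j := j)) (upper 1) * _)
  rw [perm_emb (pick x y) _ nxy (pick_spec nxy).1 (pick_spec nxy).2]
  refine sl_ext ?_
  rw [coe_mul', coe_mul', emb_upper, emb_upper]
  exact tv_comm n1 n0'.symm _ _

/-- The relator for two commuting root elements. -/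
noncomputable def parWord (F : Type uF) [Field F] (x y : Pt j) :
    FreeGroup (Alt2 (Fin (j + 2)) ⊕ Matrix.SpecialLinearGroup (Fin 3) F) :=
  let u := FreeGroup.of (Sum.inr (e01 (upper (1 : F))))
  let v := FreeGroup.of (Sum.inl (pick x y)) * u * (FreeGroup.of (Sum.inl (pick x y)))⁻¹
  u * v * (v * u)⁻¹

omit [Fintype F] in
theorem parWord_iff {G : Type*} [Group G] (ρ : Alt2 (Fin (j + 2)) →* G)
    (θ : Matrix.SpecialLinearGroup (Fin 3) F →* G) (x y : Pt j) :
    glueEval ρ θ (parWord F x y) = 1 ↔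
      Commute (first θ (upper 1)) (rootHom ρ (first θ) x y (upper 1)) := by
  simp only [parWord, map_mul, map_inv, glueEval_inl, glueEval_inr, mul_inv_eq_one]
  exact Iff.rfl

omit [Fintype F] in
theorem parWord_std (x y : Pt j) (ho : Ori x y) :
    glueEval (permHom : Alt2 (Fin (j + 2)) →* Matrix.SpecialLinearGroup (Pt j) F) std3 (parWord F x y) = 1 :=
  (parWord_iff _ _ x y).2 (std_par x y ho)

/-- Relators for `SL` on at least five points: four glue relators. -/
theorem pres_sl_five (j : ℕ) (hj : 1 ≤ j) {ω : Fˣ} (T : Setting (F := F) ω)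
    {ι : Type} {N : ι → Alt2 (Fin (j + 2))} {rA : ℕ} (hP1 : Pres N rA) (hc1 : Subgroup.closure (Set.range N) = ⊤) :
    ∃ M : ι ⊕ Fin 4 → Matrix.SpecialLinearGroup (Pt j) F,
      Pres M (rA + 18) ∧ Subgroup.closure (Set.range M) = ⊤ := by
  classical
  obtain ⟨p, s, b, hp⟩ := exists_pivots hj
  let L : Alt2 (Fin (j + 2)) → FreeGroup (Alt2 (Fin (j + 2)) ⊕ Matrix.SpecialLinearGroup (Fin 3) F) :=
    fun x => FreeGroup.of (Sum.inl x)
  let R : Matrix.SpecialLinearGroup (Fin 3) F → FreeGroup (Alt2 (Fin (j + 2)) ⊕ Matrix.SpecialLinearGroup (Fin 3) F) :=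
    fun x => FreeGroup.of (Sum.inr x)
  let k := symGen ω
  let base : List (FreeGroup (Alt2 (Fin (j + 2)) ⊕ Matrix.SpecialLinearGroup (Fin 3) F)) :=
    [L p * R (partner ω) * (L p)⁻¹ * (R (tau (partner ω)))⁻¹,
      L s * R (e01 (k 0)) * (L s)⁻¹ * (R (e01 (cond b (k 0)⁻¹ (k 0))))⁻¹,
      L s * R (e01 (k 1)) * (L s)⁻¹ * (R (e01 (cond b (k 1)⁻¹ (k 1))))⁻¹,
      parWord F q2 q3]
  have hp2 : p.1 (q2 : Pt j) = q2 := by
    have h := congrArg (fun z : Alt2 (Fin (j + 2)) => z.1 (q1 : Pt j)) hp.conj3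
    have e : (p.1)⁻¹ (q1 : Pt j) = q0 := Perm.inv_eq_iff_eq.2 hp.markp.1.symm
    have e' : (rot3.1)⁻¹ (q1 : Pt j) = q0 := Perm.inv_eq_iff_eq.2 rot3_q0.symm
    simp only [Subgroup.coe_mul, Subgroup.coe_inv, Perm.mul_apply, e, rot3_q0, e'] at h
    -- `p` fixes the remaining point of the cycle
    have h2 := congrArg (fun z : Alt2 (Fin (j + 2)) => z.1 (q0 : Pt j)) hp.conj3
    have f : (p.1)⁻¹ (q0 : Pt j) = q1 := Perm.inv_eq_iff_eq.2 hp.markp.2.symm
    have f' : (rot3.1)⁻¹ (q0 : Pt j) = q2 := Perm.inv_eq_iff_eq.2 rot3_q2.symm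
    simp only [Subgroup.coe_mul, Subgroup.coe_inv, Perm.mul_apply, f, rot3_q1, f'] at h2
    exact h2
  have hbase : ∀ z ∈ base, glueEval (permHom : Alt2 (Fin (j + 2)) →* Matrix.SpecialLinearGroup (Pt j) F) std3 z = 1 := by
    intro z hz
    have hs : ∀ g, flipJ g = g⁻¹ → (permHom s : Matrix.SpecialLinearGroup (Pt j) F) * std3 (e01 g) *
        (permHom s)⁻¹ * (std3 (e01 (cond b g⁻¹ g)))⁻¹ = 1 := by
      intro g hg
      rw [mul_inv_eq_one]
      obtain ⟨m0, m1⟩ := hp.marks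
      simp only [e01, std3_emb]
      cases b
      · exact perm_emb s _ _ m0 m1 _
      · exact (perm_emb s _ (base3_injective.ne (show (1 : Fin 3) ≠ 0 by decide)) m0 m1 g).trans
          ((emb_swap _ _).trans (congrArg _ hg))
    simp only [base, List.mem_cons, List.not_mem_nil, or_false] at hz
    rcases hz with rfl | rfl | rfl | rfl
    · simp only [L, R, map_mul, map_inv, glueEval_inl, glueEval_inr, mul_inv_eq_one]
      exact std3_conj hp.markp.1 hp.markp.2 hp2 _
    · simp only [L, R, map_mul, map_inv, glueEval_inl, glueEval_inr]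
      exact hs _ (flipJ_symGen ω 0)
    · simp only [L, R, map_mul, map_inv, glueEval_inl, glueEval_inr]
      exact hs _ (flipJ_symGen ω 1)
    · exact parWord_std _ _ ori23
  obtain ⟨M, hM, hcM⟩ := pres_assemble j T hP1 hc1 base hbase fun {G} _ ρ θ h3 hb => by
    simp only [base, List.forall_mem_cons, L, R, map_mul, map_inv, glueEval_inl, glueEval_inr, mul_inv_eq_one] at hb
    obtain ⟨b1, b2, b3, b4, -⟩ := hb
    rw [parWord_iff] at b4
    exact glued_of_par T hj ρ θ h3 (stab_of_pivots T hp ρ θ h3 b1 (Fin.forall_fin_two.2 ⟨b2, b3⟩)) b4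
  exact ⟨M, hM.mono (by simp [base]), hcM⟩

/-- Relators for `SL` on four points: four glue relators. -/
theorem pres_sl_four {ω : Fˣ} (T : Setting (F := F) ω)
    {ι : Type} {N : ι → Alt2 (Fin (0 + 2))} {rA : ℕ} (hP1 : Pres N rA) (hc1 : Subgroup.closure (Set.range N) = ⊤) :
    ∃ M : ι ⊕ Fin 4 → Matrix.SpecialLinearGroup (Pt 0) F,
      Pres M (rA + 18) ∧ Subgroup.closure (Set.range M) = ⊤ := by
  classical
  let L : Alt2 (Fin (0 + 2)) → FreeGroup (Alt2 (Fin (0 + 2)) ⊕ Matrix.SpecialLinearGroup (Fin 3) F) :=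
    fun x => FreeGroup.of (Sum.inl x)
  let R : Matrix.SpecialLinearGroup (Fin 3) F → FreeGroup (Alt2 (Fin (0 + 2)) ⊕ Matrix.SpecialLinearGroup (Fin 3) F) :=
    fun x => FreeGroup.of (Sum.inr x)
  let gl : List (FreeGroup (Alt2 (Fin (0 + 2)) ⊕ Matrix.SpecialLinearGroup (Fin 3) F)) :=
    [L piv * R (e01 (upper 1)) * (L piv)⁻¹ * (R (e01 (lower 1)))⁻¹,
      L piv * R (e01 (diag ω)) * (L piv)⁻¹ * R (e01 (diag ω)), parWord F q2 q3, parWord F q3 q2]
  have hgl : ∀ z ∈ gl, glueEval (permHom : Alt2 (Fin (0 + 2)) →* Matrix.SpecialLinearGroup (Pt 0) F) std3 z = 1 := by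
    have hf : ∀ g : SLtwo F, (permHom piv : Matrix.SpecialLinearGroup (Pt 0) F) * std3 (e01 g) * (permHom piv)⁻¹ =
        std3 (e01 (flipJ g)) := fun g => by
      simp only [e01, std3_emb]
      exact (perm_emb piv _ (base3_injective.ne (show (1 : Fin 3) ≠ 0 by decide)) piv_q0 piv_q1 g).trans
        (emb_swap _ _)
    intro z hz
    simp only [gl, List.mem_cons, List.not_mem_nil, or_false] at hz
    rcases hz with rfl | rfl | rfl | rfl
    · simp only [L, R, map_mul, map_inv, glueEval_inl, glueEval_inr, mul_inv_eq_one]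
      rw [hf, show flipJ (upper (1 : F)) = lower 1 by apply ext_entries <;> simp [flipJ, ofEntries_coe]]
    · simp only [L, R, map_mul, map_inv, glueEval_inl, glueEval_inr]
      rw [hf, ← map_mul, ← map_mul]
      have : flipJ (diag ω) * diag ω = 1 := by
        apply ext_entries <;> simp [flipJ, ofEntries_coe, Matrix.mul_apply, Fin.sum_univ_two]
      rw [this, map_one, map_one]
    · exact parWord_std _ _ ori23
    · exact parWord_std _ _ ori32
  obtain ⟨M, hM, hcM⟩ := pres_assemble 0 T hP1 hc1 gl hgl fun {G} _ ρ θ h3 hz => by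
    simp only [gl, List.forall_mem_cons, L, R, map_mul, map_inv, glueEval_inl, glueEval_inr] at hz
    obtain ⟨b1, b2, b3, b4, -⟩ := hz
    rw [mul_inv_eq_one] at b1
    rw [parWord_iff] at b3 b4
    exact ⟨h3, stab_four T ρ θ b1 (eq_inv_of_mul_eq_one_left b2), b3, b4⟩
  exact ⟨M, hM.mono (by simp [gl]), hcM⟩

end Cfsg.Agent.Lib.SLShort
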