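import Mathlib
import Cfsg.Agent.Lib.BoundedPresentation.AltPres

/-!
Few relators for the alternating groups of degree four and five.
-/

set_option autoImplicit false

namespace Cfsg.Agent.Lib.SLShort

open Equiv Equiv.Perm Cfsg.Agent.Lib.BoundedPresentation

/-- Three relators in degree four. -/
theorem pres_alt_four : Pres (cyc : Fin 2 → Alt2 (Fin 2)) 3 := by
  classical
  refine ⟨{FreeGroup.of 0 ^ 3, FreeGroup.of 1 ^ 3, (FreeGroup.of 0 * FreeGroup.of 1) ^ 2}, ?_, ?_, ?_⟩
  · exact Finset.card_le_three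
  · intro r hr
    simp only [Finset.mem_insert, Finset.mem_singleton] at hr
    rcases hr with rfl | rfl | rfl
    · simpa using carm_cyc.cube 0
    · simpa using carm_cyc.cube 1
    · simpa using carm_cyc.pair 0 1 (by decide)
  · intro G _ y hy
    simp only [Finset.forall_mem_insert, Finset.mem_singleton, forall_eq, map_pow, map_mul,
      FreeGroup.lift_apply_of] at hy
    refine exists_hom y ⟨fun i => ?_, fun i j hij => ?_⟩
    · fin_cases i
      exacts [hy.1, hy.2.1]
    · fin_cases i <;> fin_cases j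
      · exact absurd rfl hij
      · exact hy.2.2
      · have := hy.2.2
        rw [pow_two] at this ⊢
        calc y 1 * y 0 * (y 1 * y 0) = (y 0)⁻¹ * (y 0 * y 1 * (y 0 * y 1)) * y 0 := by group
          _ = 1 := by rw [this]; group
      · exact absurd rfl hij

/-- The long cycle in degree five. -/
noncomputable def shift5 : Alt2 (Fin 3) := evenLift (finRotate 3)

theorem shift5_conj (i : Fin 3) : shift5 * cyc i * shift5⁻¹ = cyc (i + 1) := by
  rw [shift5, evenLift_conj, finRotate_apply, show sign (finRotate 3) = 1 by decide]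
  simp

theorem closure_alt_five : Subgroup.closure (Set.range ![(cyc 0 : Alt2 (Fin 3)), shift5]) = ⊤ := by
  rw [eq_top_iff, ← closure_cyc, Subgroup.closure_le]
  set K := Subgroup.closure (Set.range ![(cyc 0 : Alt2 (Fin 3)), shift5])
  have h0 : (cyc 0 : Alt2 (Fin 3)) ∈ K := Subgroup.subset_closure ⟨0, rfl⟩
  have hs : shift5 ∈ K := Subgroup.subset_closure ⟨1, rfl⟩
  have h1 : (cyc 1 : Alt2 (Fin 3)) ∈ K := by
    rw [show (1 : Fin 3) = 0 + 1 from rfl, ← shift5_conj]; exact mul_mem (mul_mem hs h0) (inv_mem hs)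
  have h2 : (cyc 2 : Alt2 (Fin 3)) ∈ K := by
    rw [show (2 : Fin 3) = 1 + 1 from rfl, ← shift5_conj]; exact mul_mem (mul_mem hs h1) (inv_mem hs)
  rintro _ ⟨i, rfl⟩
  fin_cases i
  exacts [h0, h1, h2]

/-- Four relators in degree five. -/
theorem pres_alt_five_four : Pres ![(cyc 0 : Alt2 (Fin 3)), shift5] 4 := by
  classical
  set xw : Fin 3 → FreeGroup (Fin 2) :=
    fun i => FreeGroup.of 1 ^ i.val * FreeGroup.of 0 * (FreeGroup.of 1 ^ i.val)⁻¹ with hxw
  have e01 : shift5 * cyc 0 * shift5⁻¹ = cyc 1 := shift5_conj 0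
  have e12 : shift5 * cyc 1 * shift5⁻¹ = cyc 2 := shift5_conj 1
  have hxw' : ∀ i, FreeGroup.lift ![(cyc 0 : Alt2 (Fin 3)), shift5] (xw i) = cyc i := by
    intro i
    simp only [hxw, map_mul, map_inv, map_pow, FreeGroup.lift_apply_of, Matrix.cons_val_zero, Matrix.cons_val_one]
    fin_cases i
    · simp
    · simpa using e01
    · rw [show shift5 ^ ((⟨2, by omega⟩ : Fin 3) : ℕ) = shift5 * shift5 from pow_two _]
      show shift5 * shift5 * cyc 0 * (shift5 * shift5)⁻¹ = cyc 2
      rw [← e12, ← e01]; group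
  obtain ⟨v, hv⟩ := exists_word (closure_cyc (α := Fin 3)) shift5
  refine ⟨{FreeGroup.of 0 ^ 3, FreeGroup.of 1 ^ 3, (xw 0 * xw 1) ^ 2, FreeGroup.of 1 * (FreeGroup.lift xw v)⁻¹},
    ?_, ?_, ?_⟩
  · refine (Finset.card_insert_le _ _).trans (Nat.succ_le_succ ?_)
    exact Finset.card_le_three
  · intro r hr
    simp only [Finset.mem_insert, Finset.mem_singleton] at hr
    rcases hr with rfl | rfl | rfl | rfl
    · simpa using carm_cyc.cube 0
    · rw [map_pow, FreeGroup.lift_apply_of]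
      show shift5 ^ 3 = 1
      rw [shift5, ← map_pow, show (finRotate 3) ^ 3 = 1 by decide, map_one]
    · rw [map_pow, map_mul, hxw', hxw']; exact carm_cyc.pair _ _ (by decide)
    · rw [map_mul, map_inv, FreeGroup.lift_apply_of, lift_lift, mul_inv_eq_one]
      simp only [hxw']; exact hv.symm
  · intro G _ y hy
    simp only [Finset.forall_mem_insert, Finset.mem_singleton, forall_eq] at hy
    obtain ⟨r1, r2, r3, r4⟩ := hy
    simp only [map_mul, map_inv, map_pow, FreeGroup.lift_apply_of, mul_inv_eq_one] at r1 r2 r4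
    set x : Fin 3 → G := fun i => FreeGroup.lift y (xw i) with hx
    rw [map_pow, map_mul] at r3
    change (x 0 * x 1) ^ 2 = 1 at r3
    have hx' : ∀ i, x i = y 1 ^ i.val * y 0 * (y 1 ^ i.val)⁻¹ := fun i => by simp [hx, hxw]
    have x0 : x 0 = y 0 := by simp [hx']
    have hx1 : y 1 * x 0 * (y 1)⁻¹ = x 1 := by rw [hx' 1, x0]; simp
    have hx2 : y 1 * x 1 * (y 1)⁻¹ = x 2 := by
      rw [hx' 1, hx' 2, show ((1 : Fin 3) : ℕ) = 1 from rfl, show ((2 : Fin 3) : ℕ) = 2 from rfl]; group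
    have hx0 : y 1 * x 2 * (y 1)⁻¹ = x 0 := by
      rw [← hx2, ← hx1, show y 1 * (y 1 * (y 1 * x 0 * (y 1)⁻¹) * (y 1)⁻¹) * (y 1)⁻¹ =
        (y 1 * y 1 * y 1) * x 0 * (y 1 * y 1 * y 1)⁻¹ by group, show y 1 * y 1 * y 1 = y 1 ^ 3 by rw [pow_three, mul_assoc], r2]
      simp
    have flip : ∀ {a b : G}, (a * b) ^ 2 = 1 → (b * a) ^ 2 = 1 := fun {a b} h => by
      rw [pow_two] at h ⊢
      calc b * a * (b * a) = a⁻¹ * (a * b * (a * b)) * a := by group
        _ = 1 := by rw [h]; group
    have sh : ∀ {a b a' b' : G}, y 1 * a * (y 1)⁻¹ = a' → y 1 * b * (y 1)⁻¹ = b' → (a * b) ^ 2 = 1 →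
        (a' * b') ^ 2 = 1 := fun {a b a' b'} ha hb h => by
      rw [← ha, ← hb, show y 1 * a * (y 1)⁻¹ * (y 1 * b * (y 1)⁻¹) = y 1 * (a * b) * (y 1)⁻¹ by group, conj_pow, h]
      group
    have p12 := sh hx1 hx2 r3
    have p20 := sh hx2 hx0 p12
    have hcube : ∀ i, x i ^ 3 = 1 := fun i => by rw [hx', conj_pow, r1]; group
    have hpair : ∀ i j, i ≠ j → (x i * x j) ^ 2 = 1 := by
      intro i j hij
      fin_cases i <;> fin_cases j
      · exact absurd rfl hij
      · exact r3
      · exact flip p20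
      · exact flip r3
      · exact absurd rfl hij
      · exact p12
      · exact p20
      · exact flip p12
      · exact absurd rfl hij
    obtain ⟨ψ, hψ⟩ := exists_hom x ⟨hcube, hpair⟩
    refine ⟨ψ, fun k => ?_⟩
    fin_cases k
    · show ψ (cyc 0) = y 0
      rw [hψ, x0]
    · show ψ shift5 = y 1
      rw [← hv, map_lift, r4, lift_lift]
      simp only [hψ, hx]

end Cfsg.Agent.Lib.SLShort
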